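import Cfsg.Agent.GWDihedral.Inverted.Cent
import Cfsg.Agent.GWDihedral.CharSpec
import Cfsg.Agent.FourGroupGW.Inverted.Theta

/-!
GW dihedral, kind `(s)`: it is the mixed kind, given the two statements of the character layer.
-/

set_option autoImplicit false
set_option linter.unusedSectionVars false
set_option linter.style.haveILetI false

namespace Cfsg.Lib.GWD.Inv

open Subgroup
open scoped commutatorElement
open Cfsg.Lib.GW (exists_injective_linear)

universe u

variable {G : Type u} [Group G] [Finite G] {D : GWD.Frame G} {p : ℕ} {Y : Subgroup G} {b d z y : G} {S : Subgroup G}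

namespace Data

variable (I : Data D p Y b d z y S)
include I

/-- The determinant of the action of `O` is one, so `W` is `⟨b⟩`. -/
theorem W_eq_zpowers (hLin : D.LinearFixedSpec) : D.four₁.W = zpowers b := by
  haveI : Fact p.Prime := ⟨I.heis.hp⟩
  refine le_antisymm (fun w hw => ?_) (zpowers_le.2 I.heis.b_mem_W)
  obtain ⟨hwO, -⟩ := D.four₁.mem_W.1 hw
  obtain ⟨ι, hι⟩ := exists_injective_linear (ZMod p)ˣ
  set θ : D.O →* ℂˣ := ι.comp (Matrix.GeneralLinearGroup.det.comp I.heis.rot) with hθ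
  have hθr : ∀ a a' : D.O, D.r * (a : G) * D.r⁻¹ = a' → θ a' = θ a := fun a a' h => by
    show ι (Matrix.GeneralLinearGroup.det (I.heis.rot a')) = ι (Matrix.GeneralLinearGroup.det (I.heis.rot a))
    refine congrArg ι (Units.ext ?_)
    show (I.heis.mat (a' : G)).det = (I.heis.mat (a : G)).det
    rw [← h]
    refine (congrArg Matrix.det (I.heis.mat_u (D.O_le a.2))).trans ?_
    rw [Matrix.det_fin_two_of, Matrix.det_fin_two]
    ring
  have hzmem : ∀ v ∈ Y, v ∈ D.O ⊓ centralizer ({z} : Set G) := fun v hv =>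
    Subgroup.mem_inf.2 ⟨I.heis.le hv, Cfsg.Lib.GenDihedral.mem_cent.2 (I.heis.zc v hv).symm.eq⟩
  have hz : z ∈ ⁅D.O ⊓ centralizer ({z} : Set G), D.O ⊓ centralizer ({z} : Set G)⁆ := by
    have h := Subgroup.commutator_mem_commutator (hzmem b I.heis.bY) (hzmem d I.heis.dY)
    rwa [commutatorElement_def, I.heis.comm] at h
  have h1 : θ ⟨w, hwO⟩ = 1 := hLin (fun o ho => (I.s_commute_O ho).eq) p z I.heis.hp hz
    (I.heis.exp z I.heis.zY) I.heis.z1 I.heis.zinv θ hθr ⟨w, hwO⟩
  have hdet : (I.heis.mat w).det = 1 := congrArg Units.val (hι (h1.trans (map_one ι).symm))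
  have hs := I.scalar₁ hw
  rw [hs, Matrix.det_smul, Matrix.det_one, mul_one, Fintype.card_fin] at hdet
  have hsq : I.heis.mat w * I.heis.mat w = 1 := by
    rw [hs, Matrix.smul_mul, Matrix.one_mul, smul_smul, ← pow_two, hdet, one_smul]
  refine I.W_ker hw ?_
  obtain ⟨k, hk⟩ := GW.Frame.odd_orderOf D.odd_card_O hwO
  have hpow : I.heis.mat w ^ orderOf w = 1 := by
    rw [← I.heis.mat_pow (D.O_le hwO), pow_orderOf_eq_one, I.heis.mat_one]
  rwa [hk, pow_succ, pow_mul, pow_two, hsq, one_pow, one_mul] at hpow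

theorem invertedData (hW : D.four₁.W = zpowers b) : D.InvertedData I.heis.ker I.heis.centre z p where
  s_cent o ho := (I.s_commute_O ho).eq
  KO := I.heis.ker_le
  AK := (I.toInverted hW).centre_le_ker
  knorm o ho k hk := I.heis.ker_normal hW ho hk
  acent a ha o ho := ((I.toInverted hW).centre_comm ha ho).eq.symm
  ainv a ha := (I.toInverted hW).centre_inv ha
  kinv o ho := I.heis.u_conj_mul_mem hW ho
  cyc := (I.toInverted hW).hyp_rot.2.2.2.2.2.1
  hp := I.heis.hp
  zA := (I.toInverted hW).z_mem_centre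
  zp := I.heis.exp z I.heis.zY
  z1 := I.heis.z1
  card := (I.toInverted hW).card_ker
  nondeg k hk hkA := (I.toInverted hW).nondeg hk hkA
  cent x hx hsp c hc := by
    rcases hsp with h | ⟨hA, h1⟩
    · exact I.cent_outside hW hx h hc
    · exact I.cent_centre hW hA h1 hc

theorem absurd_small (hLin : D.LinearFixedSpec) (hInv : D.InvertedSpec) : False := by
  have hW := I.W_eq_zpowers hLin
  have hD := I.toInverted hW
  obtain ⟨θ, ψ, hθu, hmult, hdeg, hθz⟩ := hD.exists_theta_of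
  obtain ⟨hcard, hodd, hρ1, hρ2, -, -, -⟩ := hD.hyp_rot
  set ρ := I.heis.ker.relIndex D.four₁.O with hρ
  have hρ3 : 3 ≤ ρ := by
    obtain ⟨k, hk⟩ := hodd
    omega
  have hA : p ≤ Nat.card I.heis.centre :=
    le_of_eq_of_le ((Nat.card_zpowers z).trans I.heis.orderOf_z).symm
      (Subgroup.card_le_of_le (zpowers_le.2 hD.z_mem_centre))
  refine hInv _ _ z p (I.invertedData hW) θ ψ hθu (fun a a' h => hθz a a' h.symm) hmult (fun e => ?_) ?_
  · have h := (Cfsg.Lib.Chars.IsCharacter.apply_one_eq_deg (Cfsg.Lib.Chars.isCharacter_of_irr θ.2))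
    rw [hdeg] at h
    have h2 : (1 : ℂ) = (ρ : ℂ) := (congrFun e 1).symm.trans h
    have h' : (1 : ℕ) = ρ := by exact_mod_cast h2
    omega
  · rw [show Cfsg.Lib.Chars.deg (G := D.O) θ.1 = ρ from hdeg]
    change p ^ 2 * (2 * ρ ^ 3 + 2) < (p - 1) * Nat.card D.four₁.O
    rw [hcard, hD.card_ker]
    have hp : 2 * ρ ≤ p + 1 := hρ2
    clear_value ρ
    obtain ⟨q, rfl⟩ : ∃ q, p = q + 1 := ⟨p - 1, by omega⟩
    rw [Nat.add_sub_cancel]
    have hkey : 2 * ρ ^ 3 + 2 < q * ρ * (q + 1) := by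
      obtain ⟨r, rfl⟩ : ∃ r, ρ = r + 3 := ⟨ρ - 3, by omega⟩
      have hq : 2 * r + 4 ≤ q := by omega
      calc 2 * (r + 3) ^ 3 + 2 < (2 * r + 4) * (r + 3) * (2 * r + 4 + 1) := by ring_nf; nlinarith
        _ ≤ q * (r + 3) * (q + 1) := by gcongr
    calc (q + 1) ^ 2 * (2 * ρ ^ 3 + 2) < (q + 1) ^ 2 * (q * ρ * (q + 1)) :=
          Nat.mul_lt_mul_of_pos_left hkey (by positivity)
      _ ≤ (q + 1) ^ 2 * (q * ρ * Nat.card I.heis.centre) :=
          Nat.mul_le_mul_left _ (Nat.mul_le_mul_left _ hA)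
      _ = q * (ρ * ((q + 1) ^ 2 * Nat.card I.heis.centre)) := by ring

end Data

/-- Kind `(s)` is the mixed kind. -/
theorem noInverted {D : GWD.Frame G} (hm : Minimal G) (hLin : D.LinearFixedSpec) (hInv : D.InvertedSpec) :
    D.NoInverted := by
  intro _ _ hmax p hKS
  by_contra hno
  obtain ⟨Y, b, d, z, y, S, I⟩ := exists_data hm D hmax hKS hno
  exact I.absurd_small hLin hInv

end Cfsg.Lib.GWD.Inv
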