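import Cfsg.Agent.GWDihedral.Inverted.Outer
import Cfsg.Agent.GWDihedral.Mixed.MovedCore

/-!
GW dihedral, inverted kind: no involution of `C` inverts `z` and the element `b` of `W` commuting with it.
-/

set_option autoImplicit false
set_option linter.unusedSectionVars false
set_option linter.style.haveILetI false

namespace Cfsg.Lib.GWD.Inv

open Subgroup
open Cfsg.Lib.GenDihedral (mem_cent mul_self_of_two inv_of_two)
open Cfsg.Lib.GW (Core)

universe u

variable {G : Type u} [Group G] [Finite G]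

/-- The four-group with the other involution in the second place. -/
@[reducible] def swapFrame (F : GW.Frame G) : GW.Frame G where
  t := F.t
  u := F.t * F.u
  σ := F.σ⁻¹
  t_order := F.t_order
  u_order := F.v_order
  t_ne_u := fun e => F.u_ne_one (mul_eq_left.1 e.symm)
  comm := ((Commute.refl F.t).mul_right F.comm).eq
  σ_t := by
    have h := F.σ_v
    calc F.σ⁻¹ * F.t * F.σ⁻¹⁻¹ = F.σ⁻¹ * (F.σ * (F.t * F.u) * F.σ⁻¹) * F.σ := by rw [h]; group
      _ = F.t * F.u := by group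
  σ_u := by
    show F.σ⁻¹ * (F.t * F.u) * F.σ⁻¹⁻¹ = F.t * (F.t * F.u)
    rw [← mul_assoc F.t F.t, F.t_sq, one_mul]
    calc F.σ⁻¹ * (F.t * F.u) * F.σ⁻¹⁻¹ = F.σ⁻¹ * (F.σ * F.u * F.σ⁻¹) * F.σ := by rw [F.σ_u]; group
      _ = F.u := by group

/-- The four-group with `u` in the first place. -/
@[reducible] def shiftFrame (F : GW.Frame G) : GW.Frame G where
  t := F.u
  u := F.t * F.u
  σ := F.σ
  t_order := F.u_order
  u_order := F.v_order
  t_ne_u := fun e => F.t_ne_one (mul_eq_right.1 e.symm)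
  comm := by
    rw [show F.u * (F.t * F.u) = F.u * F.t * F.u by group, ← F.comm]
  σ_t := F.σ_u
  σ_u := by
    rw [F.σ_v, show F.u * (F.t * F.u) = F.u * F.t * F.u by group, ← F.comm, mul_assoc, F.u_sq, mul_one]

theorem swapFrame_U (F : GW.Frame G) : (swapFrame F).U = F.U := by
  refine le_antisymm ((swapFrame F).U_le_iff.2 ⟨F.t_mem_U, mul_mem F.t_mem_U F.u_mem_U⟩)
    (F.U_le_iff.2 ⟨(swapFrame F).t_mem_U, ?_⟩)
  have h := mul_mem (swapFrame F).t_mem_U (swapFrame F).u_mem_U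
  rwa [show (swapFrame F).t * (swapFrame F).u = F.t * (F.t * F.u) from rfl, ← mul_assoc, F.t_sq, one_mul] at h

theorem shiftFrame_U (F : GW.Frame G) : (shiftFrame F).U = F.U := by
  refine le_antisymm ((shiftFrame F).U_le_iff.2 ⟨F.u_mem_U, mul_mem F.t_mem_U F.u_mem_U⟩)
    (F.U_le_iff.2 ⟨?_, (shiftFrame F).t_mem_U⟩)
  have h := mul_mem (shiftFrame F).u_mem_U (shiftFrame F).t_mem_U
  rwa [show (shiftFrame F).u * (shiftFrame F).t = F.t * F.u * F.u from rfl, mul_assoc, F.u_sq, mul_one] at h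

theorem zpowers_le_normalizer {z g : G} (h : g * z * g⁻¹ = z ∨ g * z * g⁻¹ = z⁻¹) :
    g ∈ normalizer ((zpowers z : Subgroup G) : Set G) := by
  rw [mem_normalizer_iff_map_conj_eq, MonoidHom.map_zpowers]
  show zpowers (g * z * g⁻¹) = _
  rcases h with h | h <;> rw [h]
  rw [zpowers_inv]

theorem isPGroup_zpowers {p : ℕ} {z : G} (h : orderOf z = p) : IsPGroup p (zpowers z) :=
  IsPGroup.of_card (n := 1) (by rw [Nat.card_zpowers, h, pow_one])

variable (D : GWD.Frame G)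

/-- With `r` fixing `b` and both reflections inverting `z`, no involution of `C` other than `t` inverts both. -/
theorem no_reflection (hm : Minimal G) {p : ℕ} (hp : p.Prime) (hp2 : p ≠ 2) (hp3 : p ≠ 3) {b z : G}
    (hbt : Commute D.t b) (hzt : Commute D.t z) (hbo : orderOf b = p) (hzo : orderOf z = p) (hbz : Commute b z)
    (hzr : D.r * z * D.r⁻¹ = z⁻¹) (hzrs : D.r * D.s * z * (D.r * D.s)⁻¹ = z⁻¹)
    (hzC : D.C ≤ normalizer ((zpowers z : Subgroup G) : Set G))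
    (hrot : Rot D.four₁ (normalizer ((zpowers b : Subgroup G) : Set G))) (hcore : CoreFixed D.four₁ p)
    (hcent₁ : ∀ X : Subgroup G, IsPGroup p X → D.four₁.U ≤ normalizer (X : Set G) →
      ∃ s ∈ D.four₁.U, s ≠ 1 ∧ X ≤ centralizer {s})
    (hcent₂ : ∀ X : Subgroup G, IsPGroup p X → D.four₂.U ≤ normalizer (X : Set G) →
      ∃ s ∈ D.four₂.U, s ≠ 1 ∧ X ≤ centralizer {s})
    {y : G} (hyC : y ∈ D.C) (hy : orderOf y = 2) (hyne : y ≠ D.t) (hyb : y * b * y⁻¹ = b⁻¹)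
    (hyz : y * z * y⁻¹ = z⁻¹) : False := by
  haveI : Fact p.Prime := ⟨hp⟩
  have hodd : Odd p := hp.odd_of_ne_two hp2
  have hb1 : b ≠ 1 := fun e => hp.one_lt.ne (by rw [← hbo, e, orderOf_one])
  have hz1 : z ≠ 1 := fun e => hp.one_lt.ne (by rw [← hzo, e, orderOf_one])
  have hyt : y * D.t = D.t * y := D.mem_C.1 hyC
  -- a frame at `t` and `y`
  obtain ⟨V, hVt, hVu⟩ : ∃ V : GW.Frame G, V.t = D.t ∧ V.u = y := by
    obtain ⟨c, hc, e | e⟩ := Mixed.exists_conj_reflection D hyC hy hyne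
    · exact ⟨conjFrame c D.four₁, Mixed.conjFrame_t D hc D.four₁ rfl, e⟩
    · exact ⟨conjFrame c D.four₂, Mixed.conjFrame_t D hc D.four₂ rfl, e⟩
  have c₁ : Norm V p b z :=
    { hm := hm, n_odd := hbo ▸ hodd, n_ne := hb1
      n_t := by rw [hVt]; exact mul_inv_eq_iff_eq_mul.2 hbt
      n_u := by rw [hVu]; exact hyb
      hp := hp, p2 := hp2, p3 := hp3, z_ord := hzo
      z_t := by rw [hVt]; exact mul_inv_eq_iff_eq_mul.2 hzt
      z_u := by rw [hVu]; exact hyz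
      z_n := hbz.symm.eq
      z_core := fun h => by
        have hne : normalizer ((zpowers b : Subgroup G) : Set G) ≠ ⊤ := fun e => by
          haveI := hm.simple
          haveI : (zpowers b).Normal := normalizer_eq_top_iff.1 e
          rcases (inferInstance : (zpowers b).Normal).eq_bot_or_eq_top with h' | h'
          · exact hb1 (zpowers_eq_bot.1 h')
          · have hd : D.t ∈ zpowers b := h' ▸ mem_top _
            have h2 := orderOf_dvd_of_mem_zpowers hd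
            rw [D.t_order, hbo] at h2
            exact hp2 ((Nat.prime_dvd_prime_iff_eq Nat.prime_two hp).1 h2).symm
        have hfix := hcore _ hne hrot (zpowers z) (isPGroup_zpowers hzo) (zpowers_le.2 h)
          (D.four₁.U_le_iff.2 ⟨zpowers_le_normalizer (Or.inl (mul_inv_eq_iff_eq_mul.2 hzt)),
            zpowers_le_normalizer (Or.inr hzr)⟩) (mem_zpowers z)
        exact hz1 (GW.Frame.eq_one_of_fixed_inverted (hzo ▸ hodd)
          (mul_inv_eq_iff_eq_mul.2 (D.four₁.mem_centralizer_U.1 hfix).2.symm) hzr) }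
  obtain ⟨v, y', hy', hvo, hv1, hvt, hvy, hvb⟩ := c₁.exists_torus
  rw [hVt] at hvt
  rw [hVt, hVu] at hy'
  obtain ⟨hy'2, hy'ne, hy'b, hy'z⟩ : orderOf y' = 2 ∧ y' ≠ D.t ∧ y' * b * y'⁻¹ = b⁻¹ ∧ y' * z * y'⁻¹ = z⁻¹ := by
    rcases hy' with e | e <;> subst e
    · exact ⟨hy, hyne, hyb, hyz⟩
    · refine ⟨orderOf_eq_prime ?_ fun e => hyne ?_, fun e => ?_, ?_, ?_⟩
      · rw [pow_two, show D.t * y * (D.t * y) = D.t * (y * D.t) * y by group, hyt, ← mul_assoc,
          mul_self_of_two D.t_order, one_mul, mul_self_of_two hy]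
      · rw [eq_inv_of_mul_eq_one_right e, inv_of_two D.t_order]
      · rw [mul_eq_left.1 e, orderOf_one] at hy; omega
      · rw [show D.t * y * b * (D.t * y)⁻¹ = D.t * (y * b * y⁻¹) * D.t⁻¹ by group, hyb,
          mul_inv_eq_iff_eq_mul.2 hbt.inv_right.eq]
      · rw [show D.t * y * z * (D.t * y)⁻¹ = D.t * (y * z * y⁻¹) * D.t⁻¹ by group, hyz,
          mul_inv_eq_iff_eq_mul.2 hzt.inv_right.eq]
  have hy't : y' * D.t = D.t * y' := by
    rcases hy' with e | e <;> subst e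
    · exact hyt
    · exact ((Commute.refl D.t).mul_left (show Commute y D.t from hyt)).eq
  -- move `y'` to `t` and `t` to a standard reflection
  obtain ⟨g₀, hg₀⟩ := isConj_iff.1 (hm.one_class hy'2 D.t_order)
  have hxC : g₀ * D.t * g₀⁻¹ ∈ D.C := D.mem_C.2 (by
    have h := congrArg (fun w => g₀ * w * g₀⁻¹) hy't
    simp only [← conj_mul, hg₀] at h
    exact h.symm)
  have hx2 : orderOf (g₀ * D.t * g₀⁻¹) = 2 := (MulEquiv.orderOf_eq (MulAut.conj g₀) D.t).trans D.t_order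
  obtain ⟨c, hc, hce⟩ := Mixed.exists_conj_reflection D hxC hx2 fun e => hy'ne ((MulAut.conj g₀).injective
    (show g₀ * y' * g₀⁻¹ = g₀ * D.t * g₀⁻¹ by rw [hg₀, e]))
  set g := c⁻¹ * g₀ with hg
  have hgy : g * y' * g⁻¹ = D.t := by
    rw [hg, show c⁻¹ * g₀ * y' * (c⁻¹ * g₀)⁻¹ = c⁻¹ * (g₀ * y' * g₀⁻¹) * c by group, hg₀, mul_assoc,
      ← D.mem_C.1 hc, inv_mul_cancel_left]
  obtain ⟨F, hFt, hFu, hFz, hFc⟩ : ∃ F : GW.Frame G, F.t = D.t ∧ g * D.t * g⁻¹ = F.u ∧ F.u * z * F.u⁻¹ = z⁻¹ ∧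
      ∀ X : Subgroup G, IsPGroup p X → F.U ≤ normalizer (X : Set G) → ∃ s ∈ F.U, s ≠ 1 ∧ X ≤ centralizer {s} := by
    rcases hce with e | e
    · exact ⟨D.four₁, rfl, by show g * D.t * g⁻¹ = D.r; rw [hg]; calc
        _ = c⁻¹ * (g₀ * D.t * g₀⁻¹) * c := by group
        _ = D.r := by rw [← e]; group, hzr, hcent₁⟩
    · exact ⟨D.four₂, rfl, by show g * D.t * g⁻¹ = D.r * D.s; rw [hg]; calc
        _ = c⁻¹ * (g₀ * D.t * g₀⁻¹) * c := by group
        _ = D.r * D.s := by rw [← e]; group, hzrs, hcent₂⟩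
  set v' := g * v * g⁻¹ with hv'
  set b' := g * b * g⁻¹ with hb'
  have hv'o : Odd (orderOf v') := by rw [hv', ← MulAut.conj_apply, MulEquiv.orderOf_eq]; exact hvo
  have hv'1 : v' ≠ 1 := fun e => hv1 (conj_eq_one_iff.1 e)
  have hv't : v' * F.t = F.t * v' := by rw [hFt, ← hgy, hv', conj_mul, conj_mul, hvy]
  have hv'O : v' ∈ F.O := (hm.mem_O F).2 ⟨hv't, hv'o⟩
  have hv'u : F.u * v' * F.u⁻¹ = v'⁻¹ := by
    rw [← hFu, hv', show g * D.t * g⁻¹ * (g * v * g⁻¹) * (g * D.t * g⁻¹)⁻¹ = g * (D.t * v * D.t⁻¹) * g⁻¹ by group,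
      hvt]
    group
  have hb'o : orderOf b' = p := (MulEquiv.orderOf_eq (MulAut.conj g) b).trans hbo
  have hb't : F.t * b' * F.t⁻¹ = b'⁻¹ := by
    rw [hFt, ← hgy, hb', show g * y' * g⁻¹ * (g * b * g⁻¹) * (g * y' * g⁻¹)⁻¹ = g * (y' * b * y'⁻¹) * g⁻¹ by group,
      hy'b]
    group
  have hb'u : F.u * b' * F.u⁻¹ = b' := by
    rw [← hFu, hb', show g * D.t * g⁻¹ * (g * b * g⁻¹) * (g * D.t * g⁻¹)⁻¹ = g * (D.t * b * D.t⁻¹) * g⁻¹ by group,
      mul_inv_eq_iff_eq_mul.2 hbt.eq]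
  have hzFt : F.t * z * F.t⁻¹ = z := by rw [hFt]; exact mul_inv_eq_iff_eq_mul.2 hzt
  have hvz : Commute v' z := by
    refine GW.commute_of_conj_inverted hv'o hv'u hFz ?_
    have hv'C : v' ∈ D.C := D.mem_C.2 (hFt ▸ hv't)
    obtain ⟨i, hi⟩ := mem_zpowers_iff.1 ((mem_normalizer_iff.1 (hzC hv'C) z).1 (mem_zpowers z))
    rw [← hi, ← conj_zpow, hFz, inv_zpow]
  have hvb' : b' * v' = v' * b' := by rw [hb', hv', conj_mul, conj_mul, hvb]
  have hbm : b' ∈ normalizer ((zpowers v' : Subgroup G) : Set G) :=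
    zpowers_le_normalizer (Or.inl (mul_inv_eq_iff_eq_mul.2 hvb'))
  have hzm : z ∈ normalizer ((zpowers v' : Subgroup G) : Set G) :=
    zpowers_le_normalizer (Or.inl (mul_inv_eq_iff_eq_mul.2 hvz.symm.eq))
  have hUm : F.U ≤ normalizer ((zpowers v' : Subgroup G) : Set G) := F.U_le_iff.2
    ⟨zpowers_le_normalizer (Or.inl (mul_inv_eq_iff_eq_mul.2 hv't.symm)), zpowers_le_normalizer (Or.inr hv'u)⟩
  by_cases hzc : z ∈ Core (normalizer ((zpowers v' : Subgroup G) : Set G))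
  · -- the moved core containing `z`
    refine Mixed.moved_core (swapFrame F) hp2 (fun X hX hXU => ?_) (by rw [swapFrame_U]; exact hUm)
      (X := zpowers z) (z := b') (isPGroup_zpowers hzo) (zpowers_le.2 hzc) ?_
      (zpowers_le.2 (mem_cent.2 (mul_inv_eq_iff_eq_mul.1 hzFt).symm)) ⟨z, mem_zpowers z, ?_⟩ hbm
      (isPGroup_zpowers hb'o) (fun e => hp.one_lt.ne (by rw [← hb'o, e, orderOf_one])) hb't ?_
    · rw [swapFrame_U] at hXU ⊢; exact hFc X hX hXU
    · rw [swapFrame_U]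
      exact F.U_le_iff.2 ⟨zpowers_le_normalizer (Or.inl hzFt), zpowers_le_normalizer (Or.inr hFz)⟩
    · show F.t * F.u * z * (F.t * F.u)⁻¹ ≠ z
      rw [show F.t * F.u * z * (F.t * F.u)⁻¹ = F.t * (F.u * z * F.u⁻¹) * F.t⁻¹ by group, hFz, ← conj_inv, hzFt]
      exact fun e => hz1 (Cfsg.Lib.GenDihedral.eq_one_of_sq_of_odd (mul_eq_one_iff_eq_inv.2 e.symm) (hzo ▸ hodd))
    · show F.t * (F.t * F.u) * b' = b' * (F.t * (F.t * F.u))
      rw [← mul_assoc F.t, F.t_sq, one_mul, mul_inv_eq_iff_eq_mul.1 hb'u]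
  have c₂ : Norm F p v' z :=
    { hm := hm, n_odd := hv'o, n_ne := hv'1, n_t := mul_inv_eq_iff_eq_mul.2 hv't.symm, n_u := hv'u
      hp := hp, p2 := hp2, p3 := hp3, z_ord := hzo, z_t := hzFt, z_u := hFz, z_n := hvz.symm.eq, z_core := hzc }
  by_cases hbc : b' ∈ Core (normalizer ((zpowers v' : Subgroup G) : Set G))
  · refine Mixed.moved_core (shiftFrame F) hp2 (fun X hX hXU => ?_) (by rw [shiftFrame_U]; exact hUm)
      (X := zpowers b') (z := z) (isPGroup_zpowers hb'o) (zpowers_le.2 hbc) ?_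
      (zpowers_le.2 (mem_cent.2 (mul_inv_eq_iff_eq_mul.1 hb'u).symm)) ⟨b', mem_zpowers b', ?_⟩ hzm
      (isPGroup_zpowers hzo) hz1 hFz ?_
    · rw [shiftFrame_U] at hXU ⊢; exact hFc X hX hXU
    · rw [shiftFrame_U]
      exact F.U_le_iff.2 ⟨zpowers_le_normalizer (Or.inr hb't), zpowers_le_normalizer (Or.inl hb'u)⟩
    · show F.t * F.u * b' * (F.t * F.u)⁻¹ ≠ b'
      rw [show F.t * F.u * b' * (F.t * F.u)⁻¹ = F.t * (F.u * b' * F.u⁻¹) * F.t⁻¹ by group, hb'u, hb't]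
      exact fun e => hp.one_lt.ne (by
        rw [← hb'o, Cfsg.Lib.GenDihedral.eq_one_of_sq_of_odd (mul_eq_one_iff_eq_inv.2 e.symm) (hb'o ▸ hodd),
          orderOf_one])
    · show F.u * (F.t * F.u) * z = z * (F.u * (F.t * F.u))
      rw [show F.u * (F.t * F.u) = F.t by rw [← mul_assoc, ← F.comm, mul_assoc, F.u_sq, mul_one],
        mul_inv_eq_iff_eq_mul.1 hzFt]
  exact c₂.no_pair hbm hb'o hb'u hb't hbc

end Cfsg.Lib.GWD.Inv
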