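import Cfsg.Agent.GWDihedral.Inverted.Data
import Cfsg.Agent.GWDihedral.Inverted.Reflection

/-!
GW dihedral, inverted kind: `s` centralises `Y`.
-/

set_option autoImplicit false
set_option linter.unusedSectionVars false
set_option linter.style.haveILetI false

universe u

namespace Cfsg.Lib.GW.Heis

open Subgroup Matrix

variable {G : Type u} [Group G] [Finite G] {F : GW.Frame G} {p : ℕ} {Y : Subgroup G} {b d z : G}
  (H : Heis F p Y b d z)
include H

/-- Conjugation acts on the centre by the determinant. -/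
theorem commute_z_iff_det {o : G} (ho : o ∈ F.C) : Commute o z ↔ (H.mat o).det = 1 := by
  haveI : Fact p.Prime := ⟨H.hp⟩
  have hb := H.mem_Y_conj ho H.bY
  have hd := H.mem_Y_conj ho H.dY
  obtain ⟨i, j, k, hi⟩ := H.span _ hb
  obtain ⟨i', j', k', hi'⟩ := H.span _ hd
  have h00 : H.mat o 0 0 = i := by simp [Heis.mat, hi, H.co_nf]
  have h10 : H.mat o 1 0 = j := by simp [Heis.mat, hi, H.co_nf]
  have h01 : H.mat o 0 1 = i' := by simp [Heis.mat, hi', H.co_nf]
  have h11 : H.mat o 1 1 = j' := by simp [Heis.mat, hi', H.co_nf]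
  set x := b ^ i * d ^ j * z ^ k with hx
  have hxY : x ∈ Y := hi ▸ hb
  have key : o * z * o⁻¹ = z ^ (i * j') * (z ^ (j * i'))⁻¹ := by
    have e0 : o * z * o⁻¹ =
        o * b * o⁻¹ * (o * d * o⁻¹) * (o * b * o⁻¹)⁻¹ * (o * d * o⁻¹)⁻¹ := by
      conv_lhs => rw [← H.comm]
      group
    have e1 : x * (b ^ i' * d ^ j' * z ^ k') * x⁻¹ =
        z ^ (i * j') * (z ^ (j * i'))⁻¹ * (b ^ i' * d ^ j' * z ^ k') := by
      have hzz : ∀ a, x * z ^ a * x⁻¹ = z ^ a := fun a => by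
        rw [← (H.z_pow_comm a hxY).eq, mul_inv_cancel_right]
      rw [← conj_mul, ← conj_mul, hzz, ← conj_pow, ← conj_pow, hx, H.nf_conj_b, H.nf_conj_d,
        ((H.z_pow_comm j H.bY).inv_left).mul_pow, ((H.z_pow_comm i H.dY)).mul_pow, inv_pow, ← pow_mul, ← pow_mul]
      calc (z ^ (j * i'))⁻¹ * b ^ i' * (z ^ (i * j') * d ^ j') * z ^ k'
          = (z ^ (j * i'))⁻¹ * (b ^ i' * z ^ (i * j')) * d ^ j' * z ^ k' := by group
        _ = (z ^ (j * i'))⁻¹ * (z ^ (i * j') * b ^ i') * d ^ j' * z ^ k' := by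
            rw [(H.z_pow_comm (i * j') (pow_mem H.bY i')).eq]
        _ = _ := by group
    rw [e0, hi', hi, e1, mul_inv_cancel_right]
  rw [Matrix.det_fin_two, h00, h10, h01, h11]
  refine ⟨fun h => ?_, fun h => ?_⟩
  · rw [h.eq, mul_inv_cancel_right, eq_mul_inv_iff_mul_eq, ← pow_succ'] at key
    have := H.cast_eq key
    push_cast at this
    linear_combination -this
  · refine mul_inv_eq_iff_eq_mul.1 ?_
    rw [key, mul_inv_eq_iff_eq_mul, ← pow_succ']
    have hc : ((i * j' : ℕ) : ZMod p) = ((j * i' + 1 : ℕ) : ZMod p) := by push_cast; linear_combination h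
    rw [pow_eq_pow_iff_modEq, H.orderOf_z]
    exact (ZMod.natCast_eq_natCast_iff _ _ _).1 hc

/-- An involutory matrix of determinant one is scalar. -/
theorem eq_or_eq_neg_one (M : Matrix (Fin 2) (Fin 2) (ZMod p)) (h2 : M * M = 1) (hdet : M.det = 1) :
    M = 1 ∨ M = -1 := by
  haveI : Fact p.Prime := ⟨H.hp⟩
  have hadj : M = M.adjugate := by
    have h := M.mul_adjugate
    rw [hdet, one_smul, ← h2] at h
    have h3 := congrArg (fun N => M * N) h
    simp only [← Matrix.mul_assoc, h2, Matrix.one_mul, Matrix.mul_one] at h3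
    exact h3.symm
  rw [Matrix.adjugate_fin_two] at hadj
  have h01 : M 0 1 = -M 0 1 := by simpa using congrFun (congrFun hadj 0) 1
  have h10 : M 1 0 = -M 1 0 := by simpa using congrFun (congrFun hadj 1) 0
  have h11 : M 1 1 = M 0 0 := by simpa using congrFun (congrFun hadj 1) 1
  have e01 : M 0 1 = 0 := (mul_eq_zero.1 (show (2 : ZMod p) * M 0 1 = 0 by linear_combination h01)).resolve_left
    H.two_ne_zero'
  have e10 : M 1 0 = 0 := (mul_eq_zero.1 (show (2 : ZMod p) * M 1 0 = 0 by linear_combination h10)).resolve_left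
    H.two_ne_zero'
  rw [Matrix.det_fin_two, e01, h11, zero_mul, sub_zero] at hdet
  rcases mul_self_eq_one_iff.1 hdet with e | e
  · left; ext i j; fin_cases i <;> fin_cases j <;> simp [e01, e10, h11, e]
  · right; ext i j; fin_cases i <;> fin_cases j <;> simp [e01, e10, h11, e]

/-- An element of `Y` fixed by `u` with coordinate `±1` is `b` or its inverse. -/
theorem eq_b_or_inv {v : G} (hv : v ∈ Y) (hvu : F.u * v * F.u⁻¹ = v) :
    (co Y p b d z v = ![1, 0] → v = b) ∧ (co Y p b d z v = -![1, 0] → v = b⁻¹) := by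
  obtain ⟨i, rfl⟩ := H.fixed_eq hv hvu
  have hco : co Y p b d z (b ^ i) 0 = i := by rw [H.co_pow H.bY, H.co_b]; simp
  refine ⟨fun h => ?_, fun h => ?_⟩
  · rw [h] at hco
    simp at hco
    conv_rhs => rw [← pow_one b]
    rw [pow_eq_pow_iff_modEq, H.orderOf_b, ← ZMod.natCast_eq_natCast_iff]
    simpa using hco.symm
  · rw [h] at hco
    simp at hco
    rw [eq_inv_iff_mul_eq_one, ← pow_succ, ← orderOf_dvd_iff_pow_eq_one, H.orderOf_b,
      ← ZMod.natCast_eq_zero_iff]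
    push_cast
    linear_combination -hco

end Cfsg.Lib.GW.Heis

namespace Cfsg.Lib.GWD.Inv

open Subgroup Matrix

variable {G : Type u} [Group G] [Finite G] {D : GWD.Frame G} {p : ℕ} {Y : Subgroup G} {b d z y : G}
  {S : Subgroup G}

namespace Data

variable (I : Data D p Y b d z y S)
include I

theorem r_mem_C : D.r ∈ D.C := D.S_le_C D.r_mem_S

theorem s_mem_C : D.s ∈ D.C := D.S_le_C D.s_mem_S

theorem commute_t {v : G} (hv : v ∈ Y) : Commute D.t v := (D.mem_C.1 (D.O_le (I.heis.le hv))).symm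

theorem p2 : p ≠ 2 := by have := I.p5; omega

theorem p3 : p ≠ 3 := by have := I.p5; omega

theorem rot_normalizer : Rot D.four₁ (normalizer ((zpowers b : Subgroup G) : Set G)) := by
  obtain ⟨hU, g, hg, h1, h2⟩ := I.loc₁.fusing_centralizer (zpowers b) (zpowers_le.2 I.heis.b_mem_W)
    (isPGroup_zpowers I.heis.orderOf_b) (zpowers_ne_bot.2 I.heis.b1)
  exact ⟨hU.trans (centralizer_le_normalizer _), g, centralizer_le_normalizer _ hg, h1, h2⟩

theorem normalizer_b_ne_top : normalizer ((zpowers b : Subgroup G) : Set G) ≠ ⊤ := fun e => by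
  haveI := I.hm.simple
  haveI : (zpowers b).Normal := normalizer_eq_top_iff.1 e
  rcases (inferInstance : (zpowers b).Normal).eq_bot_or_eq_top with h' | h'
  · exact I.heis.b1 (zpowers_eq_bot.1 h')
  · have h2 := orderOf_dvd_of_mem_zpowers (h' ▸ mem_top D.t : D.t ∈ zpowers b)
    rw [D.t_order, I.heis.orderOf_b] at h2
    exact I.p2 ((Nat.prime_dvd_prime_iff_eq Nat.prime_two I.heis.hp).1 h2).symm

theorem z_normal : D.C ≤ normalizer ((zpowers z : Subgroup G) : Set G) := fun o ho => by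
  refine Cfsg.Lib.Coprime.mem_normalizer_of_conj_mem (fun w hw => ?_) fun w hw => ?_
  · obtain ⟨i, rfl⟩ := mem_zpowers_iff.1 hw
    rw [← conj_zpow]
    exact zpow_mem (I.heis.conj_z_mem ho) i
  · obtain ⟨i, rfl⟩ := mem_zpowers_iff.1 hw
    rw [show o⁻¹ * z ^ i * o = (o⁻¹ * z * o⁻¹⁻¹) ^ i by rw [conj_zpow, inv_inv]]
    exact zpow_mem (I.heis.conj_z_mem (inv_mem ho)) i

theorem z_not_core : z ∉ GW.Core (normalizer ((zpowers b : Subgroup G) : Set G)) := fun h => by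
  have hfix := I.loc₁.core_fixed _ I.normalizer_b_ne_top I.rot_normalizer (zpowers z)
    (isPGroup_zpowers I.heis.orderOf_z) (zpowers_le.2 h)
    (D.four₁.U_le_iff.2 ⟨zpowers_le_normalizer (Or.inl (mul_inv_eq_iff_eq_mul.2 (I.commute_t I.heis.zY).eq)),
      zpowers_le_normalizer (Or.inr I.heis.zinv)⟩) (mem_zpowers z)
  exact I.heis.z1 (GW.Frame.eq_one_of_fixed_inverted
    (I.heis.orderOf_z ▸ I.heis.hp.odd_of_ne_two I.p2)
    (mul_inv_eq_iff_eq_mul.2 (D.four₁.mem_centralizer_U.1 hfix).2.symm) I.heis.zinv)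

theorem coprime_rot (k : ℕ) : (orderOf (D.s ^ k)).Coprime p := by
  obtain ⟨i, -, hi⟩ := (Nat.dvd_prime_pow Nat.prime_two).1 (D.s_order ▸ orderOf_pow_dvd (x := D.s) k)
  rw [hi]
  exact ((Nat.coprime_primes Nat.prime_two I.heis.hp).2 (Ne.symm I.p2)).pow_left i

theorem mat_sq {w : G} (hw : w ∈ D.C) (h : w * w = 1) : I.heis.mat w * I.heis.mat w = 1 := by
  rw [← I.heis.mat_mul hw hw, h, I.heis.mat_one]

theorem r_sq : D.r * D.r = 1 := Cfsg.Lib.GenDihedral.mul_self_of_two D.r_order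

theorem r_conj_pow (k : ℕ) : D.r * D.s ^ k * D.r⁻¹ = (D.s ^ k)⁻¹ := by rw [← conj_pow, D.rel, inv_pow]

/-- Both reflections invert `z`: `s` centralises it. -/
theorem s_commute_z : Commute D.s z := by
  haveI : Fact p.Prime := ⟨I.heis.hp⟩
  have hz : D.r * z * D.r⁻¹ = z⁻¹ := I.heis.zinv
  obtain ⟨n, hn⟩ := mem_zpowers_iff.1 (I.heis.conj_z_mem I.s_mem_C)
  have h2 : D.s⁻¹ * z * D.s = z ^ n := by
    calc D.s⁻¹ * z * D.s = D.r * D.s * D.r⁻¹ * z * (D.r * D.s * D.r⁻¹)⁻¹ := by rw [D.rel, inv_inv]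
      _ = D.r * (D.s * (D.r⁻¹ * z * D.r) * D.s⁻¹) * D.r⁻¹ := by group
      _ = D.r * (D.s * z⁻¹ * D.s⁻¹) * D.r⁻¹ := by
          rw [show D.r⁻¹ * z * D.r = D.r * z * D.r⁻¹ by
            rw [Cfsg.Lib.GenDihedral.inv_of_two D.r_order], hz]
      _ = _ := by
          rw [← conj_inv, ← hn, ← conj_inv, ← conj_zpow, hz, _root_.inv_zpow, inv_inv]
  have hsq : z ^ (n * n) = z := by
    rw [_root_.zpow_mul, hn, conj_zpow, ← h2]
    group
  have hn2 : ((n : ZMod p) - 1) * ((n : ZMod p) + 1) = 0 := by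
    have h : z ^ (n * n - 1) = 1 := by rw [_root_.zpow_sub_one, hsq, mul_inv_cancel]
    have := (ZMod.intCast_zmod_eq_zero_iff_dvd _ _).2 (I.heis.orderOf_z ▸ orderOf_dvd_iff_zpow_eq_one.2 h)
    push_cast at this
    linear_combination this
  rcases mul_eq_zero.1 hn2 with h | h
  · refine mul_inv_eq_iff_eq_mul.1 (hn.symm.trans ?_)
    have hd : (p : ℤ) ∣ n - 1 := (ZMod.intCast_zmod_eq_zero_iff_dvd _ _).1 (by push_cast; exact h)
    rw [← I.heis.orderOf_z] at hd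
    have := orderOf_dvd_iff_zpow_eq_one.1 hd
    rw [_root_.zpow_sub_one, mul_inv_eq_one] at this
    exact this
  · -- otherwise `r s` centralises `z` and normalises `⟨b⟩`
    exfalso
    have hsz : D.s * z * D.s⁻¹ = z⁻¹ := by
      have hd : (p : ℤ) ∣ n + 1 := (ZMod.intCast_zmod_eq_zero_iff_dvd _ _).1 (by push_cast; exact h)
      rw [← I.heis.orderOf_z] at hd
      have := orderOf_dvd_iff_zpow_eq_one.1 hd
      rw [_root_.zpow_add_one] at this
      exact hn.symm.trans (eq_inv_of_mul_eq_one_left this)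
    set v := D.r * D.s
    have hvC : v ∈ D.C := mul_mem I.r_mem_C I.s_mem_C
    have hvz : v * z * v⁻¹ = z := by
      rw [show v * z * v⁻¹ = D.r * (D.s * z * D.s⁻¹) * D.r⁻¹ by simp only [v]; group, hsz, ← conj_inv, hz, inv_inv]
    have hvdet := (I.heis.commute_z_iff_det hvC).1 (mul_inv_eq_iff_eq_mul.1 hvz)
    have hvm := I.mat_sq hvC (Cfsg.Lib.GenDihedral.mul_self_of_two D.rs_order)
    have hscal : I.heis.mat v = 1 ∨ I.heis.mat v = -1 := I.heis.eq_or_eq_neg_one _ hvm hvdet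
    -- `s ^ 2` centralises `Y`
    have hs2mat : I.heis.mat (D.s ^ 2) = 1 := by
      have e : D.s = D.r * v := by simp only [v]; rw [← mul_assoc, I.r_sq, one_mul]
      rw [pow_two, I.heis.mat_mul I.s_mem_C I.s_mem_C, e, I.heis.mat_mul I.r_mem_C hvC]
      rcases hscal with h | h <;> rw [h] <;> simp [I.mat_sq I.r_mem_C I.r_sq]
    have hs2z : Commute (D.s ^ 2) z := by
      refine mul_inv_eq_iff_eq_mul.1 ?_
      rw [pow_two, show D.s * D.s * z * (D.s * D.s)⁻¹ = D.s * (D.s * z * D.s⁻¹) * D.s⁻¹ by group, hsz, ← conj_inv,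
        hsz, inv_inv]
    have hs2b : Commute (D.s ^ 2) b :=
      I.heis.commute_of_mat_one (pow_mem I.s_mem_C 2) (I.coprime_rot 2) hs2z hs2mat I.heis.bY
    have hW : v * b * v⁻¹ ∈ Y := I.heis.mem_Y_conj hvC I.heis.bY
    have hWr : D.r * (v * b * v⁻¹) * D.r⁻¹ = v * b * v⁻¹ := by
      have e2 : D.s * b * D.s⁻¹ = D.s⁻¹ * b * D.s := by
        calc D.s * b * D.s⁻¹ = D.s⁻¹ * (D.s ^ 2 * b) * D.s⁻¹ := by rw [pow_two]; group
          _ = D.s⁻¹ * (b * D.s ^ 2) * D.s⁻¹ := by rw [hs2b.eq]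
          _ = _ := by rw [pow_two]; group
      have hb := I.heis.bfix
      have hb' : D.r⁻¹ * b * D.r = b := by
        rw [Cfsg.Lib.GenDihedral.inv_of_two D.r_order]
        nth_rw 2 [← Cfsg.Lib.GenDihedral.inv_of_two D.r_order]
        exact hb
      calc D.r * (v * b * v⁻¹) * D.r⁻¹ = (D.r * D.r) * (D.s * b * D.s⁻¹) * (D.r * D.r)⁻¹ := by simp only [v]; group
        _ = D.s⁻¹ * b * D.s := by rw [I.r_sq, e2]; simp
        _ = D.r * D.s * D.r⁻¹ * b * (D.r * D.s * D.r⁻¹)⁻¹ := by rw [D.rel, inv_inv]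
        _ = D.r * D.s * (D.r⁻¹ * b * D.r) * (D.r * D.s)⁻¹ := by group
        _ = v * b * v⁻¹ := by rw [hb']
    obtain ⟨h1, h2⟩ := I.heis.eq_b_or_inv hW hWr
    have hvb : v * b * v⁻¹ = b ∨ v * b * v⁻¹ = b⁻¹ := by
      have e := I.heis.mat_mulVec hvC I.heis.bY
      rw [I.heis.co_b] at e
      rcases hscal with hs | hs <;> rw [hs] at e
      · exact Or.inl (h1 (by rw [← e, Matrix.one_mulVec]))
      · exact Or.inr (h2 (by rw [← e, Matrix.neg_mulVec, Matrix.one_mulVec]))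
    have hzH : z ∈ normalizer ((zpowers b : Subgroup G) : Set G) :=
      zpowers_le_normalizer (Or.inl (mul_inv_eq_iff_eq_mul.2 (I.heis.zc b I.heis.bY).eq))
    rcases I.hm.invertsSpec D.four₁ _ I.normalizer_b_ne_top I.rot_normalizer.1 v
        ⟨zpowers_le_normalizer hvb, hvC⟩ D.rs_order (Ne.symm D.t_ne_rs) z ⟨hzH, I.heis.le I.heis.zY⟩ hz with h | ⟨h, -⟩
    · rw [hvz] at h
      exact I.z_not_core (Cfsg.Lib.GenDihedral.mem_of_sq (I.heis.orderOf_z ▸ I.heis.hp.odd_of_ne_two I.p2) h)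
    · obtain ⟨j, hj⟩ := exists_pow_eq_self_of_coprime (x := z) (n := 3)
        (by rw [I.heis.orderOf_z]; exact (Nat.coprime_primes Nat.prime_three I.heis.hp).2 (Ne.symm I.p3))
      exact I.z_not_core (hj ▸ pow_mem h j)

theorem rs_inverts_z : D.r * D.s * z * (D.r * D.s)⁻¹ = z⁻¹ := by
  rw [show D.r * D.s * z * (D.r * D.s)⁻¹ = D.r * (D.s * z * D.s⁻¹) * D.r⁻¹ by group,
    mul_inv_eq_iff_eq_mul.2 I.s_commute_z.eq]
  exact I.heis.zinv

/-- `s` acts trivially on `Y`. -/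
theorem mat_s : I.heis.mat D.s = 1 := by
  classical
  haveI : Fact p.Prime := ⟨I.heis.hp⟩
  by_contra hne
  have hfin : ∃ e, I.heis.mat (D.s ^ 2 ^ e) = 1 :=
    ⟨D.n - 1, by rw [← D.s_order, pow_orderOf_eq_one, I.heis.mat_one]⟩
  obtain ⟨e, he, hmin⟩ : ∃ e, I.heis.mat (D.s ^ 2 ^ e) = 1 ∧ ∀ e' < e, I.heis.mat (D.s ^ 2 ^ e') ≠ 1 :=
    ⟨Nat.find hfin, Nat.find_spec hfin, fun e' h => Nat.find_min hfin h⟩
  obtain ⟨k, rfl⟩ : ∃ k, e = k + 1 := ⟨e - 1, by
    rcases e with _ | e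
    · exact absurd (by simpa using he) hne
    · rfl⟩
  have hN := hmin k (Nat.lt_succ_self k)
  set w := D.s ^ 2 ^ k with hw
  have hwC : w ∈ D.C := pow_mem I.s_mem_C _
  have hww : I.heis.mat (w * w) = 1 := by
    rw [hw, ← pow_add]; rwa [← two_mul, ← pow_succ'] 
  have hwz : Commute w z := I.s_commute_z.pow_left _
  have hneg : I.heis.mat w = -1 := (I.heis.eq_or_eq_neg_one _ (by rw [← I.heis.mat_mul hwC hwC, hww])
    ((I.heis.commute_z_iff_det hwC).1 hwz)).resolve_left hN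
  have hw2b : Commute (w * w) b := by
    refine I.heis.commute_of_mat_one (mul_mem hwC hwC) ?_ (hwz.mul_left hwz) hww I.heis.bY
    rw [hw, ← pow_add]; exact I.coprime_rot _
  set v := D.r * w with hv
  have hrw : D.r * w * D.r⁻¹ = w⁻¹ := I.r_conj_pow _
  have hvv : v * v = 1 := by
    rw [hv, show D.r * w * (D.r * w) = D.r * w * D.r * w by group,
      show D.r * w * D.r = D.r * w * D.r⁻¹ by rw [Cfsg.Lib.GenDihedral.inv_of_two D.r_order], hrw,
      inv_mul_cancel]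
  have hvC : v ∈ D.C := mul_mem I.r_mem_C hwC
  have hWfix : D.r * (w * b * w⁻¹) * D.r⁻¹ = w * b * w⁻¹ := by
    calc D.r * (w * b * w⁻¹) * D.r⁻¹ = (D.r * w * D.r⁻¹) * (D.r * b * D.r⁻¹) * (D.r * w * D.r⁻¹)⁻¹ := by group
      _ = w⁻¹ * b * w := by rw [hrw, show D.r * b * D.r⁻¹ = b from I.heis.bfix, inv_inv]
      _ = w⁻¹ * (b * (w * w)) * w⁻¹ := by group
      _ = w⁻¹ * ((w * w) * b) * w⁻¹ := by rw [hw2b.eq]
      _ = _ := by group
  have hwb : w * b * w⁻¹ = b⁻¹ := by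
    refine (I.heis.eq_b_or_inv (I.heis.mem_Y_conj hwC I.heis.bY) hWfix).2 ?_
    rw [← I.heis.mat_mulVec hwC I.heis.bY, hneg, I.heis.co_b, Matrix.neg_mulVec, Matrix.one_mulVec]
  have hvb : v * b * v⁻¹ = b⁻¹ := by
    rw [show v * b * v⁻¹ = D.r * (w * b * w⁻¹) * D.r⁻¹ by rw [hv]; group, hwb, ← conj_inv,
      show D.r * b * D.r⁻¹ = b from I.heis.bfix]
  have hvz : v * z * v⁻¹ = z⁻¹ := by
    rw [show v * z * v⁻¹ = D.r * (w * z * w⁻¹) * D.r⁻¹ by rw [hv]; group, mul_inv_eq_iff_eq_mul.2 hwz.eq]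
    exact I.heis.zinv
  have hodd : Odd p := I.heis.hp.odd_of_ne_two I.p2
  refine no_reflection D I.hm I.heis.hp I.p2 I.p3 (I.commute_t I.heis.bY) (I.commute_t I.heis.zY) I.heis.orderOf_b
    I.heis.orderOf_z (I.heis.zc b I.heis.bY).symm I.heis.zinv I.rs_inverts_z I.z_normal I.rot_normalizer
    I.loc₁.core_fixed I.loc₁.cent_inv I.loc₂.cent_inv hvC ?_ (fun e => ?_) hvb hvz
  · refine (Cfsg.Lib.GenDihedral.two_or_one hvv).resolve_left fun e => I.heis.b1 ?_
    rw [e, one_mul, inv_one, mul_one] at hvb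
    exact Cfsg.Lib.GenDihedral.eq_one_of_sq_of_odd (eq_inv_iff_mul_eq_one.1 hvb) (I.heis.orderOf_b ▸ hodd)
  · rw [e, mul_inv_eq_iff_eq_mul.2 (I.commute_t I.heis.bY).eq] at hvb
    exact I.heis.b1 (Cfsg.Lib.GenDihedral.eq_one_of_sq_of_odd (eq_inv_iff_mul_eq_one.1 hvb)
      (I.heis.orderOf_b ▸ hodd))

theorem s_centralizes {v : G} (hv : v ∈ Y) : Commute D.s v := by
  have := I.heis.commute_of_mat_one (o := D.s ^ 1) (pow_mem I.s_mem_C 1) (I.coprime_rot 1)
    (by rw [pow_one]; exact I.s_commute_z) (by rw [pow_one]; exact I.mat_s) hv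
  rwa [pow_one] at this

end Data

end Cfsg.Lib.GWD.Inv
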