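import Cfsg.Agent.GWDihedral.Inverted.Centralize
import Cfsg.Agent.FourGroupGW.Inverted.Cent

/-!
GW dihedral, inverted kind with `C_O(r) = ⟨b⟩`: the centralisers of the special elements of `O` lie in `C`.
-/

set_option autoImplicit false
set_option linter.unusedSectionVars false
set_option linter.style.haveILetI false

namespace Cfsg.Lib.GWD.Inv

open Subgroup
open Cfsg.Lib.GW (Core qmap qmap_eq qmap_eq_one core_le le_normalizer_core inverted)
open Cfsg.Lib.GenDihedral (mem_cent eq_one_of_sq_of_odd)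

universe u

variable {G : Type u} [Group G] [Finite G]

/-- An element inverting `g` is outside the centraliser of `g` modulo the odd core. -/
theorem not_cent_image {g v : G} (hg : Odd (orderOf g)) (hg1 : g ≠ 1)
    (hv : v * g * v⁻¹ = g⁻¹) (hvN : v ∈ normalizer ((zpowers g : Subgroup G) : Set G)) :
    qmap _ ⟨v, hvN⟩ ∉ ((centralizer ((zpowers g : Subgroup G) : Set G)).subgroupOf
      (normalizer ((zpowers g : Subgroup G) : Set G))).map (qmap (normalizer ((zpowers g : Subgroup G) : Set G))) := by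
  rintro ⟨w, hw, e⟩
  have hw' := mem_centralizer_iff.1 (mem_subgroupOf.1 hw) g (mem_zpowers g)
  have hk : (w : G)⁻¹ * v ∈ Core _ := qmap_eq.1 e
  set k := (w : G)⁻¹ * v with hkd
  have hkg : k * g * k⁻¹ = g⁻¹ := by
    rw [hkd, show (w : G)⁻¹ * v * g * ((w : G)⁻¹ * v)⁻¹ = (w : G)⁻¹ * (v * g * v⁻¹) * w by group, hv,
      show (w : G)⁻¹ * g⁻¹ * w = ((w : G)⁻¹ * (g * w))⁻¹ by group, hw', inv_mul_cancel_left]
  exact hg1 (eq_one_of_sq_of_odd (by
    have hk2 : Commute (k * k) g := by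
      refine mul_inv_eq_iff_eq_mul.1 ?_
      rw [show k * k * g * (k * k)⁻¹ = k * (k * g * k⁻¹) * k⁻¹ by group, hkg, ← _root_.conj_inv, hkg, inv_inv]
    have hkc := GW.commute_of_sq (GW.Frame.odd_orderOf (GW.Frame.odd_card_core _) hk) hk2
    rw [hkc.eq, mul_inv_cancel_right] at hkg
    exact eq_inv_iff_mul_eq_one.1 hkg) hg)

variable {D : GWD.Frame G} {p : ℕ} {Y : Subgroup G} {b d z y : G} {S : Subgroup G}

namespace Data

variable (I : Data D p Y b d z y S) (hW : D.four₁.W = zpowers b)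
include I hW

theorem toInverted : GW.Inverted D.four₁ p Y b d z y := ⟨I.heis, hW, I.yO, I.yu, I.yp, I.ymove⟩

/-- The centraliser of a non-trivial element of `C_O(Y)` lies in `C`. -/
theorem cent_centre {a : G} (ha : a ∈ I.heis.centre) (ha1 : a ≠ 1) {c : G} (hc : Commute c a) :
    c * D.t = D.t * c := by
  have hD := I.toInverted hW
  have haO : a ∈ D.O := (hD.mem_centre.1 ha).1
  have hle : D.C ≤ normalizer ((zpowers a : Subgroup G) : Set G) := by
    rw [D.C_eq]
    refine sup_le (fun o ho => zpowers_le_normalizer (Or.inl ?_)) (D.S_le_normalizer_of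
      (zpowers_le_normalizer (Or.inl ?_)) (zpowers_le_normalizer (Or.inr (hD.centre_inv ha))))
    · exact mul_inv_eq_iff_eq_mul.2 (hD.centre_comm ha ho).eq
    · exact mul_inv_eq_iff_eq_mul.2 (I.s_commute_O haO).eq
  have htop : normalizer ((zpowers a : Subgroup G) : Set G) ≠ ⊤ := by
    intro h
    haveI := I.hm.simple
    haveI : (zpowers a).Normal := normalizer_eq_top_iff.1 h
    rcases (inferInstance : (zpowers a).Normal).eq_bot_or_eq_top with h' | h'
    · exact ha1 (zpowers_eq_bot.1 h')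
    · have ht : D.t ∈ D.O := zpowers_le.2 haO (h' ▸ mem_top _)
      have := GW.Frame.odd_orderOf D.odd_card_O ht
      rw [D.t_order] at this
      exact absurd this (by decide)
  rcases hle.eq_or_lt with h | h
  · exact D.mem_C.1 (h.ge (GW.Frame.centralizer_le_normalizer_zpowers hc))
  · exact absurd (I.hmax.2 _ h) htop

theorem cent_z {c : G} (hc : Commute c z) : c * D.t = D.t * c :=
  I.cent_centre hW (I.toInverted hW).z_mem_centre I.heis.z1 hc

/-- Every reflection of `C` inverts `O` modulo the kernel. -/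
theorem reflection_mod {v o : G} (hv : v ∈ D.C) (hv2 : orderOf v = 2) (hvt : v ≠ D.t) (ho : o ∈ D.O) :
    v * o * v⁻¹ * o ∈ I.heis.ker := by
  have hD := I.toInverted hW
  obtain ⟨c, hc, hce⟩ := Mixed.exists_conj_reflection D hv hv2 hvt
  set o' := c⁻¹ * o * c with ho'
  have ho'O : o' ∈ D.O := by simpa [ho'] using (mem_normalizer_iff.1 (D.C_le_normalizer_O (inv_mem hc)) o).1 ho
  have key : D.r * o' * D.r⁻¹ * o' ∈ I.heis.ker ∧ D.r * D.s * o' * (D.r * D.s)⁻¹ * o' ∈ I.heis.ker := by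
    refine ⟨I.heis.u_conj_mul_mem hW ho'O, ?_⟩
    rw [show D.r * D.s * o' * (D.r * D.s)⁻¹ * o' = D.r * (D.s * o' * D.s⁻¹) * D.r⁻¹ * o' by group,
      mul_inv_eq_iff_eq_mul.2 (I.s_commute_O ho'O).eq]
    exact I.heis.u_conj_mul_mem hW ho'O
  have hconj : ∀ k ∈ I.heis.ker, c * k * c⁻¹ ∈ I.heis.ker := fun k hk =>
    ⟨(mem_normalizer_iff.1 (D.C_le_normalizer_O hc) k).1 hk.1, by
      rw [I.heis.mat_mul (mul_mem hc (D.O_le hk.1)) (inv_mem hc), I.heis.mat_mul hc (D.O_le hk.1), hk.2, Matrix.mul_one,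
        I.heis.mat_mul_inv hc]⟩
  rcases hce with e | e
  · have := hconj _ key.1
    rwa [show c * (D.r * o' * D.r⁻¹ * o') * c⁻¹ = (c * D.r * c⁻¹) * o * (c * D.r * c⁻¹)⁻¹ * o by
      rw [ho']; group, e] at this
  · have := hconj _ key.2
    rwa [show c * (D.r * D.s * o' * (D.r * D.s)⁻¹ * o') * c⁻¹ =
      (c * (D.r * D.s) * c⁻¹) * o * (c * (D.r * D.s) * c⁻¹)⁻¹ * o by rw [ho']; group, e] at this

theorem S_le_normalizer {g : G} (hg : g ∈ D.O) (hgr : D.r * g * D.r⁻¹ = g⁻¹) :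
    D.S ≤ normalizer ((zpowers g : Subgroup G) : Set G) :=
  D.S_le_normalizer_of (zpowers_le_normalizer (Or.inl (mul_inv_eq_iff_eq_mul.2 (I.s_commute_O hg).eq)))
    (zpowers_le_normalizer (Or.inr hgr))

/-- The normaliser of an inverted element outside the kernel is its core times the Sylow subgroup. -/
theorem normalizer_two {g : G} (hg : g ∈ D.O) (hgr : D.r * g * D.r⁻¹ = g⁻¹) (hgK : g ∉ I.heis.ker)
    {l : ℕ} (hl : l.Prime) (hgl : IsPGroup l (zpowers g)) (hN : normalizer ((zpowers g : Subgroup G) : Set G) ≠ ⊤) :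
    IsPGroup 2 (normalizer ((zpowers g : Subgroup G) : Set G) ⧸
      Cfsg.oddCore (normalizer ((zpowers g : Subgroup G) : Set G))) := by
  set N := normalizer ((zpowers g : Subgroup G) : Set G) with hNd
  have hgo := GW.Frame.odd_orderOf D.odd_card_O hg
  have hg1 : g ≠ 1 := fun h => hgK (h ▸ one_mem _)
  have hSN := I.S_le_normalizer hW hg hgr
  have hU : D.four₁.U ≤ N := D.four₁.U_le_iff.2 ⟨hSN D.t_mem_S, hSN D.r_mem_S⟩
  rcases I.hm.cases D.four₁ hU hN with h2 | ⟨L, T, h4, -⟩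
  · exact h2
  exfalso
  haveI := T.normal
  have F4 := D.four₁.four_q hU
  set tb := D.four₁.tb hU with htb
  -- `t` is a square in the Sylow subgroup
  have htL : tb ∈ L := by
    have h3 := D.three_le
    set j : N := ⟨D.s ^ 2 ^ (D.n - 3), hSN (pow_mem D.s_mem_S _)⟩ with hj
    have hjt : qmap N j ^ 2 = tb := by
      rw [← map_pow, htb, GW.Frame.tb]
      refine congrArg _ (Subtype.ext ?_)
      show (D.s ^ 2 ^ (D.n - 3)) ^ 2 = D.t
      rw [← pow_mul, ← pow_succ, show D.n - 3 + 1 = D.n - 2 by omega]; rfl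
    set π := QuotientGroup.mk' L
    have hord : orderOf (π (qmap N j)) ∣ 4 := orderOf_dvd_of_pow_eq_one (by
      rw [← map_pow, show (4 : ℕ) = 2 * 2 from rfl, pow_mul, hjt, pow_two,
        Cfsg.Lib.GenDihedral.mul_self_of_two F4.z2, map_one])
    have h2 : orderOf (π (qmap N j)) ∣ 2 := by
      obtain ⟨i, hi, hio⟩ := (Nat.dvd_prime_pow Nat.prime_two).1 (show orderOf (π (qmap N j)) ∣ 2 ^ 2 from hord)
      rcases i with _ | _ | i
      · rw [hio]; exact one_dvd _
      · rw [hio]; rfl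
      · refine absurd ?_ h4
        rw [index_eq_card]
        have h5 : orderOf (π (qmap N j)) = 4 := by
          rw [hio, show i = 0 by omega]; rfl
        exact h5 ▸ orderOf_dvd_natCard _
    rw [← hjt]
    refine (QuotientGroup.eq_one_iff _).1 ?_
    show π (qmap N j ^ 2) = 1
    rw [map_pow]
    exact orderOf_dvd_iff_pow_eq_one.1 h2
  -- an involution of `L` commuting with `t`, lifted into `C`
  obtain ⟨a₀, b₀, ha₀, hb₀, F4'⟩ := T.four
  obtain ⟨l₀, -, hl₀⟩ := T.conj a₀ tb F4'.z2 F4.z2 ha₀ htL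
  set i := l₀ * b₀ * l₀⁻¹ with hi
  have hiL : i ∈ L := Subgroup.Normal.conj_mem inferInstance b₀ hb₀ l₀
  have hi2 : orderOf i = 2 := (MulEquiv.orderOf_eq (MulAut.conj l₀) b₀).trans F4'.t2
  have hit : i * tb = tb * i := by
    rw [hi, ← hl₀, _root_.conj_mul, _root_.conj_mul, F4'.zt, F4'.tz]
  have hine : i ≠ tb := fun e => F4'.ne_zt ((MulAut.conj l₀).injective
    (show l₀ * a₀ * l₀⁻¹ = l₀ * b₀ * l₀⁻¹ by rw [hl₀, ← e, hi]))
  obtain ⟨w, hw, hwi⟩ : i ∈ ((N ⊓ D.four₁.C).subgroupOf N).map (qmap N) := by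
    rw [D.four₁.map_cent_t hU]; exact mem_centralizer_singleton_iff.2 hit
  obtain ⟨e, m, hm', he⟩ := Nat.exists_eq_pow_mul_and_not_dvd (orderOf_pos w).ne' 2 (by norm_num)
  obtain ⟨k, rfl⟩ : Odd m := Nat.not_even_iff_odd.1 fun h => hm' (even_iff_two_dvd.1 h)
  set v := w ^ (2 * k + 1) with hvd
  have hvi : qmap N v = i := by
    rw [hvd, map_pow, hwi, pow_succ, pow_mul, pow_two, Cfsg.Lib.GenDihedral.mul_self_of_two hi2, one_pow, one_mul]
  have hvv : v * v = 1 := by
    have h1 : v * v ∈ Cfsg.oddCore N := (QuotientGroup.eq_one_iff _).1 (by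
      show qmap N (v * v) = 1
      rw [map_mul, hvi, Cfsg.Lib.GenDihedral.mul_self_of_two hi2])
    have ho := GW.Frame.odd_orderOf (GW.Frame.odd_card_core N) (show ((v * v : N) : G) ∈ Core N from ⟨_, h1, rfl⟩)
    rw [orderOf_coe] at ho
    have h2 : orderOf (v * v) ∣ 2 ^ e := orderOf_dvd_of_pow_eq_one (by
      rw [hvd, ← pow_two, ← pow_mul, ← pow_mul, show (2 * k + 1) * (2 * 2 ^ e) = orderOf w * 2 by rw [he]; ring,
        pow_mul, pow_orderOf_eq_one, one_pow])
    exact orderOf_eq_one_iff.1 (Nat.eq_one_of_dvd_coprimes ((Nat.coprime_two_left.2 ho).pow_left e) h2 dvd_rfl)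
  have hvC : (v : G) ∈ D.C := by
    rw [hvd, SubmonoidClass.coe_pow]
    exact pow_mem (mem_subgroupOf.1 hw).2 _
  have hv2 : orderOf (v : G) = 2 := by
    refine (Cfsg.Lib.GenDihedral.two_or_one (congrArg Subtype.val hvv)).resolve_left fun h1 => ?_
    rw [← hvi, show v = 1 from Subtype.ext h1, map_one, orderOf_one] at hi2
    omega
  have hvt : (v : G) ≠ D.t := fun h1 => hine (by
    rw [← hvi, htb, GW.Frame.tb]; exact congrArg _ (Subtype.ext h1))
  -- `v` inverts `g`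
  have hvg : (v : G) * g * (v : G)⁻¹ = g⁻¹ := by
    obtain ⟨q, hq⟩ := mem_zpowers_iff.1 ((mem_normalizer_iff.1 v.2 g).1 (mem_zpowers g))
    have hmod := I.reflection_mod hW hvC hv2 hvt hg
    rw [← hq, ← _root_.zpow_add_one] at hmod
    have hsq : g ^ (q * q - 1) = 1 := by
      rw [_root_.zpow_sub_one, _root_.zpow_mul, hq, conj_zpow, hq,
        show (v : G) * ((v : G) * g * (v : G)⁻¹) * (v : G)⁻¹ = ((v * v : N) : G) * g * ((v * v : N) : G)⁻¹ by
          push_cast; group, hvv]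
      simp
    haveI : Fact l.Prime := ⟨hl⟩
    obtain ⟨i', hi'⟩ := IsPGroup.iff_orderOf.1 hgl ⟨g, mem_zpowers g⟩
    rw [Subgroup.orderOf_mk] at hi'
    have hlo : Odd l := by
      rcases Nat.eq_zero_or_pos i' with h0 | h0
      · rw [h0, pow_zero, orderOf_eq_one_iff] at hi'; exact absurd hi' hg1
      · exact hgo.of_dvd_nat (hi' ▸ dvd_pow_self l h0.ne')
    have hd : ((l : ℤ) ^ i') ∣ (q - 1) * (q + 1) := by
      have := orderOf_dvd_iff_zpow_eq_one.2 hsq
      rw [hi'] at this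
      rw [show (q - 1) * (q + 1) = q * q - 1 by ring]
      exact_mod_cast this
    have hlp : Prime (l : ℤ) := Nat.prime_iff_prime_int.1 hl
    by_cases hl1 : (l : ℤ) ∣ q + 1
    · have hl2 : ¬ (l : ℤ) ∣ q - 1 := fun h => by
        have h3 : (l : ℤ) ∣ 2 := by simpa using dvd_sub hl1 h
        have h4 : l ∣ 2 := by exact_mod_cast h3
        obtain rfl := (Nat.prime_dvd_prime_iff_eq hl Nat.prime_two).1 h4
        exact absurd hlo (by decide)
      have h5 := hlp.pow_dvd_of_dvd_mul_left i' hl2 hd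
      have h6 : g ^ (q + 1) = 1 := orderOf_dvd_iff_zpow_eq_one.1 (by rw [hi']; exact_mod_cast h5)
      rw [← hq]
      rw [_root_.zpow_add_one] at h6
      exact eq_inv_of_mul_eq_one_left h6
    · have h5 := hlp.pow_dvd_of_dvd_mul_right i' hl1 hd
      have h6 : g ^ q = g := by
        have := orderOf_dvd_iff_zpow_eq_one.1 (by rw [hi']; exact_mod_cast h5 : (orderOf g : ℤ) ∣ q - 1)
        rw [_root_.zpow_sub_one, mul_inv_eq_one] at this
        exact this
      rw [_root_.zpow_add_one, h6] at hmod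
      exact absurd (Cfsg.Lib.GenDihedral.mem_of_sq hgo hmod) hgK
  haveI : ((centralizer ((zpowers g : Subgroup G) : Set G)).subgroupOf N).Normal :=
    normal_subgroupOf_of_le_normalizer (Cfsg.Lib.Thompson.normalizer_le_normalizer_centralizer _)
  have htA : tb ∈ ((centralizer ((zpowers g : Subgroup G) : Set G)).subgroupOf N).map (qmap N) :=
    mem_map_of_mem _ (mem_subgroupOf.2 (mem_centralizer_iff.2 fun x hx => by
      obtain ⟨q, rfl⟩ := mem_zpowers_iff.1 hx
      exact ((show Commute g D.t from D.mem_C.1 (D.O_le hg)).zpow_left q).eq))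
  haveI := Subgroup.Normal.map (H := (centralizer ((zpowers g : Subgroup G) : Set G)).subgroupOf N) inferInstance
    (qmap N) (QuotientGroup.mk'_surjective _)
  obtain ⟨l₁, -, hl₁⟩ := T.conj tb i F4.z2 hi2 htL hiL
  refine not_cent_image hgo hg1 hvg v.2 ?_
  rw [Subtype.coe_eta, hvi, ← hl₁]
  exact Subgroup.Normal.conj_mem inferInstance tb htA l₁

/-- An inverted element of prime power order outside the kernel has its centraliser in `C`. -/
theorem cent_inverted {g : G} (hg : g ∈ D.O) (hgr : D.r * g * D.r⁻¹ = g⁻¹) (hgK : g ∉ I.heis.ker)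
    {l : ℕ} (hl : l.Prime) (hgl : IsPGroup l (zpowers g)) {c : G} (hc : Commute c g) :
    c * D.t = D.t * c := by
  classical
  haveI : Fact p.Prime := ⟨I.heis.hp⟩
  haveI : Fact (Nat.Prime 2) := ⟨Nat.prime_two⟩
  have hD := I.toInverted hW
  have hg1 : g ≠ 1 := fun h => hgK (h ▸ one_mem _)
  have hgo := GW.Frame.odd_orderOf D.odd_card_O hg
  set N := normalizer ((zpowers g : Subgroup G) : Set G) with hNd
  have hN : N ≠ ⊤ := by
    intro h
    haveI := I.hm.simple
    haveI : (zpowers g).Normal := normalizer_eq_top_iff.1 h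
    rcases (inferInstance : (zpowers g).Normal).eq_bot_or_eq_top with h' | h'
    · exact hg1 (zpowers_eq_bot.1 h')
    · have ht : D.t ∈ D.O := zpowers_le.2 hg (h' ▸ mem_top _)
      have := GW.Frame.odd_orderOf D.odd_card_O ht
      rw [D.t_order] at this
      exact absurd this (by decide)
  have hSN := I.S_le_normalizer hW hg hgr
  have hnil := I.normalizer_two hW hg hgr hgK hl hgl hN
  have hgt : Commute D.t g := (D.mem_C.1 (D.O_le hg)).symm
  have hU : D.four₁.U ≤ N := D.four₁.U_le_iff.2 ⟨hSN D.t_mem_S, hSN D.r_mem_S⟩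
  set K' := Core N ⊓ centralizer {g} with hK'
  have hK'odd : Odd (Nat.card K') := (GW.Frame.odd_card_core N).of_dvd_nat (card_dvd_of_le inf_le_left)
  have hK'g : ∀ x ∈ K', Commute x g := fun x hx => mem_centralizer_singleton_iff.1 hx.2
  -- the centraliser of `g` in `N` is `K' ⟨s⟩`
  obtain ⟨σ₀, hσ₀, hσg, hk⟩ : ∃ σ₀ ∈ zpowers D.s, Commute σ₀ g ∧ c * σ₀⁻¹ ∈ K' := by
    have hcN : c ∈ N := GW.Frame.centralizer_le_normalizer_zpowers hc
    have hSle : (D.sylow : Subgroup G) ≤ N := D.coe_sylow.le.trans hSN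
    set P := (D.sylow.subtype hSle).mapSurjective (QuotientGroup.mk'_surjective (Cfsg.oddCore N)) with hP
    have htop : (P : Subgroup (N ⧸ Cfsg.oddCore N)) = ⊤ :=
      (P.3 (Q := ⊤) (hnil.of_equiv topEquiv.symm) le_top).symm
    obtain ⟨x, hx, hxc⟩ : qmap N ⟨c, hcN⟩ ∈ ((D.sylow.subtype hSle : Sylow 2 N) : Subgroup N).map (qmap N) := by
      rw [show ((D.sylow.subtype hSle : Sylow 2 N) : Subgroup N).map (qmap N) = (P : Subgroup _) from rfl, htop]
      exact mem_top _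
    rw [SetLike.mem_coe, Sylow.coe_subtype, mem_subgroupOf, D.coe_sylow] at hx
    have hk : c * (x : G)⁻¹ ∈ Core N := by
      have h := (qmap_eq_one (x := (⟨c, hcN⟩ : N) * x⁻¹)).1 (by rw [map_mul, map_inv, hxc, mul_inv_cancel])
      exact h
    rcases D.S_cases hx with h | h
    · obtain ⟨q, hq⟩ := mem_zpowers_iff.1 h
      have hxg : Commute (x : G) g := hq ▸ (I.s_commute_O hg).zpow_left q
      exact ⟨x, h, hxg, Subgroup.mem_inf.2 ⟨hk, mem_cent.2 (hc.mul_left hxg.inv_left).eq⟩⟩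
    · exfalso
      obtain ⟨q, hq⟩ := mem_zpowers_iff.1 h
      have hxg : (x : G)⁻¹ * g * (x : G)⁻¹⁻¹ = g⁻¹ := by
        have e : (x : G)⁻¹ = D.r * (D.s ^ q)⁻¹ := by rw [hq]; group
        rw [e, show D.r * (D.s ^ q)⁻¹ * g * (D.r * (D.s ^ q)⁻¹)⁻¹ = D.r * ((D.s ^ q)⁻¹ * g * (D.s ^ q)⁻¹⁻¹) * D.r⁻¹ by
          group, mul_inv_eq_iff_eq_mul.2 ((I.s_commute_O hg).zpow_left q).inv_left.eq, hgr]
      refine GW.eq_one_of_conj_inv (GW.Frame.odd_card_core N)
        (qmap_eq_one.1 (eq_one_of_two_q hnil (GW.Frame.centralizer_le_normalizer_zpowers (Commute.refl g)) hgo)) hk ?_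
        |> hg1
      rw [show c * (x : G)⁻¹ * g * (c * (x : G)⁻¹)⁻¹ = c * ((x : G)⁻¹ * g * (x : G)⁻¹⁻¹) * c⁻¹ by group, hxg,
        hc.inv_right.eq, mul_inv_cancel_right]
  suffices hmain : ∀ x ∈ K', x * D.t = D.t * x by
    obtain ⟨q, hq⟩ := mem_zpowers_iff.1 hσ₀
    have h1 := hmain _ hk
    have h2 : σ₀ * D.t = D.t * σ₀ := hq ▸ ((show Commute D.s D.t from D.S_comm_t D.s_mem_S).zpow_left q).eq
    have := (show Commute (c * σ₀⁻¹) D.t from h1).mul_left (show Commute σ₀ D.t from h2)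
    rwa [inv_mul_cancel_right] at this
  set F := D.four₁ with hF
  have hUg : F.U ≤ normalizer (centralizer ({g} : Set G) : Set G) := by
    rw [← Cfsg.Lib.Coprime.centralizer_zpowers]
    exact hU.trans (Cfsg.Lib.Thompson.normalizer_le_normalizer_centralizer _)
  have hK'U : F.U ≤ normalizer (K' : Set G) :=
    (le_inf (hU.trans (le_normalizer_core N)) hUg).trans inf_normalizer_le_normalizer_inf
  have hzg : Commute z g := (hD.comm_z hg).symm
  have hzN : z ∈ N := GW.Frame.centralizer_le_normalizer_zpowers hzg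
  have hzcore : z ∈ Core N :=
    qmap_eq_one.1 (eq_one_of_two_q hnil hzN (I.heis.orderOf_z ▸ I.heis.hp.odd_of_ne_two I.p2))
  have hzK' : z ∈ K' := Subgroup.mem_inf.2 ⟨hzcore, mem_cent.2 hzg.eq⟩
  -- nothing of `K'` is centralised by the four-group
  have hfixU : ∀ x ∈ K', x * F.t = F.t * x → x * F.u = F.u * x → x = 1 := by
    intro x hx hxt hxu
    have hxW : x ∈ zpowers b := hW ▸ (GWD.mem_W_iff F I.hm).2
      ⟨F.mem_centralizer_U.2 ⟨hxt, hxu⟩, GW.Frame.odd_orderOf hK'odd hx⟩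
    by_contra hx1
    obtain ⟨i, hi⟩ := mem_zpowers_iff.1 (GW.mem_zpowers_of_mem_cyclic I.heis.hp hxW (mem_zpowers b)
      (by obtain ⟨k, rfl⟩ := mem_zpowers_iff.1 hxW
          rw [← zpow_natCast, zpow_comm, zpow_natCast, I.heis.exp b I.heis.bY, one_zpow])
      (I.heis.exp b I.heis.bY) hx1)
    have hgb : Commute g b := hi ▸ (hK'g x hx).symm.zpow_right i
    obtain ⟨-, h10⟩ := I.heis.entries_of_not_mem hW I.yO hD.hc hD.he hg hgK
    refine h10 ?_
    show GW.co Y p b d z (g * b * g⁻¹) 1 = 0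
    rw [mul_inv_eq_iff_eq_mul.2 hgb.eq, I.heis.co_b]; rfl
  -- the two sides embed in `O / K`
  have hside : ∀ (τ s₀ : G), τ ∈ normalizer (F.W : Set G) → τ * F.t * τ⁻¹ = s₀ → s₀ ∈ F.U →
      (∀ x : G, x * F.t = F.t * x → x * s₀ = s₀ * x → x * F.u = F.u * x) →
      (∃ V : GW.Frame G, V.t = F.t ∧ V.t * V.u = s₀ ∧ V.U = F.U ∧ V.u * z * V.u⁻¹ = z⁻¹) →
      (s₀ * g * s₀⁻¹ = g⁻¹) →
      Nat.card (inverted (K' ⊓ centralizer {s₀}) F.t) ∣ I.heis.ker.relIndex F.O := by
    intro τ s₀ hτ hts hs₀ hsu hV hs₀g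
    set A := K' ⊓ centralizer {s₀} with hA
    have hAn : F.t ∈ normalizer (A : Set G) := F.mem_normalizer_inf_centralizer hK'U hs₀ F.t_mem_U
    have hAo : Odd (Nat.card A) := hK'odd.of_dvd_nat (card_dvd_of_le inf_le_left)
    have hinv : ∀ x ∈ A, F.t * x * F.t⁻¹ = x⁻¹ := GW.Mixed.Invol.inverts F.t_sq hAn fun x hx hxt =>
      hfixU x hx.1 hxt.symm (hsu x hxt.symm (mem_centralizer_singleton_iff.1 hx.2))
    have hcard : Nat.card (inverted A F.t) = Nat.card A :=
      Nat.card_congr (Equiv.subtypeEquivRight fun x => ⟨fun h => h.1, fun h => ⟨h, hinv x h⟩⟩)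
    rw [hcard]
    set A' : Subgroup G := A.map (MulAut.conj τ⁻¹).toMonoidHom with hA'
    have hA'O : A' ≤ F.O := by
      rintro _ ⟨a, ha, rfl⟩
      refine (I.hm.mem_O F).2 ⟨?_, ?_⟩
      · show τ⁻¹ * a * τ⁻¹⁻¹ * F.t = F.t * (τ⁻¹ * a * τ⁻¹⁻¹)
        calc τ⁻¹ * a * τ⁻¹⁻¹ * F.t = τ⁻¹ * (a * (τ * F.t * τ⁻¹)) * τ := by group
          _ = τ⁻¹ * (τ * F.t * τ⁻¹ * a) * τ := by rw [hts, mem_centralizer_singleton_iff.1 ha.2]
          _ = _ := by group
      · exact (MulEquiv.orderOf_eq (MulAut.conj τ⁻¹) a).symm ▸ GW.Frame.odd_orderOf hAo ha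
    have hbot : A' ⊓ I.heis.ker = ⊥ := by
      refine eq_bot_iff.2 fun k hk => mem_bot.2 ?_
      by_contra hk1
      -- an element of prime order
      obtain ⟨q, hq, hqd⟩ := Nat.exists_prime_and_dvd (fun h => hk1 (orderOf_eq_one_iff.1 h))
      obtain ⟨m, hm⟩ := hqd
      set k' := k ^ m
      have hm0 : 0 < m := Nat.pos_of_ne_zero fun h => (orderOf_pos k).ne' (by rw [hm, h, mul_zero])
      have hk'o : orderOf k' = q := by
        rw [orderOf_pow' _ hm0.ne', hm, Nat.gcd_eq_right (Dvd.intro_left _ rfl), Nat.mul_div_cancel _ hm0]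
      obtain ⟨hkA, hkK⟩ := Subgroup.mem_inf.1 (pow_mem hk m)
      obtain ⟨a, ha, hak⟩ := hkA
      have hak' : τ⁻¹ * a * τ⁻¹⁻¹ = k' := hak
      have hao : orderOf a = q := by
        rw [← hk'o, ← hak']; exact (MulEquiv.orderOf_eq (MulAut.conj τ⁻¹) a).symm
      have hat := hinv a ha
      have has := mem_centralizer_singleton_iff.1 ha.2
      by_cases hqp : q = p
      · subst hqp
        obtain ⟨V, hVt, hVs, hVU, hVz⟩ := hV
        refine Mixed.moved_core V I.p2 (fun X hX hXU => ?_) (by rw [hVU]; exact hU) (X := zpowers z) (z := a)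
          (isPGroup_zpowers I.heis.orderOf_z) (zpowers_le.2 hzcore) ?_
          (zpowers_le.2 (mem_cent.2 (by rw [hVt]; exact (D.mem_C.1 (D.O_le (I.heis.le I.heis.zY))))))
          ⟨z, mem_zpowers z, fun e => I.heis.z1 (GW.Frame.eq_one_of_fixed_inverted
            (I.heis.orderOf_z ▸ I.heis.hp.odd_of_ne_two I.p2) e hVz)⟩
          (core_le N ha.1.1) (isPGroup_zpowers hao) (fun e => hq.one_lt.ne (by rw [← hao, e, orderOf_one])) ?_ ?_
        · rw [hVU] at hXU ⊢; exact I.loc₁.cent_inv X hX hXU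
        · rw [hVU]
          exact F.U_le_iff.2 ⟨zpowers_le_normalizer (Or.inl (mul_inv_eq_iff_eq_mul.2
            (I.commute_t I.heis.zY).eq)), zpowers_le_normalizer (Or.inr I.heis.zinv)⟩
        · rw [hVt]; exact hat
        · rw [hVs]; exact has.symm
      · have hkc : k' ∈ I.heis.centre := hD.mem_centre_of_coprime hkK (by
          rw [hk'o]; exact fun h => hqp ((Nat.prime_dvd_prime_iff_eq I.heis.hp hq).1 h).symm)
        have hcomm : Commute (τ⁻¹ * g * τ⁻¹⁻¹) k' := by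
          rw [← hak']
          exact (hK'g a ha.1).symm.map (MulAut.conj τ⁻¹).toMonoidHom
        have h := I.cent_centre hW hkc (fun e => hq.one_lt.ne (by rw [← hk'o, e, orderOf_one])) hcomm
        refine hg1 (GW.Frame.eq_one_of_fixed_inverted hgo ?_ hs₀g)
        rw [← hts]
        refine mul_inv_eq_iff_eq_mul.2 ?_
        show τ * D.t * τ⁻¹ * g = g * (τ * D.t * τ⁻¹)
        calc τ * D.t * τ⁻¹ * g = τ * (D.t * (τ⁻¹ * g * τ⁻¹⁻¹)) * τ⁻¹ := by group
          _ = τ * (τ⁻¹ * g * τ⁻¹⁻¹ * D.t) * τ⁻¹ := by rw [h]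
          _ = _ := by group
    obtain ⟨-, -, -, -, -, -, hemb⟩ := hD.hyp_rot
    have h := hemb A' hA'O hbot
    rwa [hA', card_map_of_injective (MulAut.conj τ⁻¹).injective] at h
  have hσ := GWD.σ_mem_normalizer_W F I.hm
  have hgtu : F.t * F.u * g * (F.t * F.u)⁻¹ = g⁻¹ := by
    rw [show F.t * F.u * g * (F.t * F.u)⁻¹ = F.t * (F.u * g * F.u⁻¹) * F.t⁻¹ by group, show F.u * g * F.u⁻¹ = g⁻¹ from hgr]
    exact mul_inv_eq_iff_eq_mul.2 hgt.inv_right.eq
  have hσσ : F.σ * F.σ * F.t * (F.σ * F.σ)⁻¹ = F.t * F.u := by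
    rw [show F.σ * F.σ * F.t * (F.σ * F.σ)⁻¹ = F.σ * (F.σ * F.t * F.σ⁻¹) * F.σ⁻¹ by group, F.σ_t, F.σ_u]
  have htz : F.t * z * F.t⁻¹ = z := mul_inv_eq_iff_eq_mul.2 (I.commute_t I.heis.zY).eq
  have h1 := hside F.σ F.u hσ F.σ_t F.u_mem_U (fun x _ h => h)
    ⟨swapFrame F, rfl, by show F.t * (F.t * F.u) = F.u; rw [← mul_assoc, F.t_sq, one_mul], swapFrame_U F, by
      show F.t * F.u * z * (F.t * F.u)⁻¹ = z⁻¹
      rw [show F.t * F.u * z * (F.t * F.u)⁻¹ = F.t * (F.u * z * F.u⁻¹) * F.t⁻¹ by group,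
        show F.u * z * F.u⁻¹ = z⁻¹ from I.heis.zinv, ← _root_.conj_inv, htz]⟩ hgr
  have h2 := hside (F.σ * F.σ) (F.t * F.u) (mul_mem hσ hσ) hσσ (mul_mem F.t_mem_U F.u_mem_U)
    (fun x hxt h => by
      have := (show Commute x F.t from hxt).mul_right (show Commute x (F.t * F.u) from h)
      rw [← mul_assoc, F.t_sq, one_mul] at this
      exact this.eq)
    ⟨F, rfl, rfl, rfl, I.heis.zinv⟩ hgtu
  have hcardJ := F.card_inverted hK'odd hK'U
  -- `z` fixes only the trivial element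
  have hzw : ∀ a ∈ zpowers z, ∀ x, x ∈ inverted K' F.t → a * x * a⁻¹ ∈ inverted K' F.t := by
    intro a ha x hx
    obtain ⟨i, rfl⟩ := mem_zpowers_iff.1 ha
    refine ⟨K'.mul_mem (K'.mul_mem (K'.zpow_mem hzK' i) hx.1) (K'.inv_mem (K'.zpow_mem hzK' i)), ?_⟩
    have hti : F.t * z ^ i * F.t⁻¹ = z ^ i := by rw [← conj_zpow, htz]
    rw [← _root_.conj_mul, ← _root_.conj_mul, ← _root_.conj_inv, hti, hx.2]
    group
  letI act : MulAction (zpowers z) (inverted K' F.t) :=
    { smul := fun a x => ⟨(a : G) * x * (a : G)⁻¹, hzw a a.2 x x.2⟩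
      one_smul := fun x => Subtype.ext (by
        show ((1 : zpowers z) : G) * x * ((1 : zpowers z) : G)⁻¹ = x
        simp)
      mul_smul := fun a a' x => Subtype.ext (by
        show ((a * a' : zpowers z) : G) * x * ((a * a' : zpowers z) : G)⁻¹ =
          (a : G) * ((a' : G) * x * (a' : G)⁻¹) * (a : G)⁻¹
        rw [Subgroup.coe_mul]; group) }
  have hfix : Nat.card (MulAction.fixedPoints (zpowers z) (inverted K' F.t)) = 1 := by
    haveI : Subsingleton (MulAction.fixedPoints (zpowers z) (inverted K' F.t)) := by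
      refine ⟨fun x x' => ?_⟩
      have key : ∀ w : MulAction.fixedPoints (zpowers z) (inverted K' F.t), ((w : inverted K' F.t) : G) = 1 := by
        intro w
        have h := congrArg Subtype.val (w.2 ⟨z, mem_zpowers z⟩)
        change z * ((w : inverted K' F.t) : G) * z⁻¹ = _ at h
        have hct := I.cent_z hW (mul_inv_eq_iff_eq_mul.1 h).symm
        exact GW.Frame.eq_one_of_fixed_inverted (GW.Frame.odd_orderOf hK'odd (w : inverted K' F.t).2.1)
          (mul_inv_eq_iff_eq_mul.2 hct.symm) (w : inverted K' F.t).2.2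
      exact Subtype.ext (Subtype.ext ((key x).trans (key x').symm))
    haveI : Nonempty (MulAction.fixedPoints (zpowers z) (inverted K' F.t)) := by
      refine ⟨⟨⟨1, one_mem K', by simp⟩, fun a => Subtype.ext ?_⟩⟩
      show (a : G) * 1 * (a : G)⁻¹ = 1
      simp
    exact Nat.card_unique
  have hmod := (isPGroup_zpowers I.heis.orderOf_z).card_modEq_card_fixedPoints (inverted K' F.t)
  rw [hfix, hcardJ] at hmod
  obtain ⟨-, hρ, -, h2ρ, hdvd, -, -⟩ := hD.hyp_rot
  have hone : Nat.card (inverted K' F.t) = 1 := by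
    rw [hcardJ]
    refine GW.mul_eq_one_of_dvd hD.p_odd hρ h2ρ hdvd h1 h2 ?_
    rwa [Nat.ModEq, Nat.one_mod_eq_one.2 I.heis.hp.ne_one] at hmod
  haveI : Subsingleton (inverted K' F.t) := (Nat.card_eq_one_iff_unique.1 hone).1
  intro x hx
  obtain ⟨f, hf, e, he, hfu, heu, rfl⟩ := GW.Frame.exists_fixed_mul_inverted hK'odd F.t_sq (hK'U F.t_mem_U) hx
  have he1 : e = 1 := congrArg Subtype.val
    (Subsingleton.elim (⟨e, he, heu⟩ : inverted K' F.t) ⟨1, one_mem K', by simp⟩)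
  rw [he1, mul_one]
  exact (mul_inv_eq_iff_eq_mul.1 hfu).symm

/-- An element of `O` outside the kernel has its centraliser in `C`. -/
theorem cent_outside {x : G} (hx : x ∈ D.O) (hxK : x ∉ I.heis.ker) {c : G} (hc : Commute c x) :
    c * D.t = D.t * c := by
  haveI : Fact p.Prime := ⟨I.heis.hp⟩
  have hD := I.toInverted hW
  set F := D.four₁ with hF
  -- a part of prime power order outside the kernel
  obtain ⟨n, hn⟩ : ∃ n, n = orderOf (I.heis.rot ⟨x, hx⟩) := ⟨_, rfl⟩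
  have hkerrot : ∀ o : F.O, I.heis.rot o = 1 ↔ (o : G) ∈ I.heis.ker := fun o => by
    rw [GW.Heis.mem_ker, Units.ext_iff]
    exact ⟨fun h => ⟨o.2, h⟩, fun h => h.2⟩
  have hn1 : n ≠ 1 := fun h => hxK ((hkerrot ⟨x, hx⟩).1 (orderOf_eq_one_iff.1 (by rw [← hn, h])))
  set l := n.minFac
  haveI hl : Fact l.Prime := ⟨Nat.minFac_prime hn1⟩
  have hlp : l ≠ p := by
    intro e
    refine hD.rel_coprime ((e ▸ n.minFac_dvd : p ∣ n).trans ?_)
    have hidx : (I.heis.rot.ker).index = I.heis.ker.relIndex F.O := by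
      rw [relIndex]; congr 1; ext o; rw [MonoidHom.mem_ker, hkerrot, mem_subgroupOf]
    have hpow : (⟨x, hx⟩ : F.O) ^ (I.heis.rot.ker).index ∈ I.heis.rot.ker := pow_index_mem _ _
    rw [hn, ← hidx]
    exact orderOf_dvd_of_pow_eq_one (by rw [← map_pow]; exact hpow)
  obtain ⟨i, m, hml, hord⟩ := Nat.exists_eq_pow_mul_and_not_dvd (orderOf_pos x).ne' l hl.out.ne_one
  set x' := x ^ m
  have hm0 : 0 < m := Nat.pos_of_ne_zero fun h => hml (h ▸ dvd_zero l)
  have hx'O : x' ∈ F.O := pow_mem hx m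
  have hx'K : x' ∉ I.heis.ker := by
    intro h
    have h1 : I.heis.rot ⟨x, hx⟩ ^ m = 1 := by rw [← map_pow]; exact (hkerrot _).2 h
    exact hml ((n.minFac_dvd).trans (hn ▸ orderOf_dvd_of_pow_eq_one h1))
  have hx'l : IsPGroup l (zpowers x') := by
    refine IsPGroup.of_card (n := i) ?_
    rw [Nat.card_zpowers, orderOf_pow' _ hm0.ne', hord, Nat.gcd_eq_right (Dvd.intro_left _ rfl),
      Nat.mul_div_cancel _ hm0]
  -- conjugate it to an inverted element
  haveI : Fact (Nat.Prime 2) := ⟨Nat.prime_two⟩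
  haveI : Group.IsNilpotent F.U := F.isPGroup_U.isNilpotent
  obtain ⟨P, hP⟩ := Cfsg.Lib.Coprime.exists_invariant_sylow F.U_le_normalizer_O (F.coprime_U F.odd_card_O)
    (Or.inl inferInstance) l
  obtain ⟨P', hP'⟩ := (hx'l.comap_of_injective F.O.subtype F.O.subtype_injective).exists_le_sylow
  obtain ⟨o, ho⟩ := MulAction.exists_smul_eq F.O P' P
  set g := (o : G) * x' * (o : G)⁻¹ with hgdef
  have hgP : g ∈ (P : Subgroup F.O).map F.O.subtype := by
    rw [← ho, Cfsg.Lib.Coprime.map_subtype_smul, Cfsg.Lib.Coprime.mem_conjMap]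
    refine ⟨⟨x', hx'O⟩, hP' (mem_zpowers x'), ?_⟩
    simp [g, mul_assoc]
  have hgO : g ∈ F.O := mul_mem (mul_mem o.2 hx'O) (inv_mem o.2)
  have hgK : g ∉ I.heis.ker := fun h => hx'K (by
    simpa [g, mul_assoc] using I.heis.ker_normal hW (inv_mem o.2) h)
  have hgu : F.u * g * F.u⁻¹ = g⁻¹ := by
    have hPo : Odd (Nat.card ((P : Subgroup F.O).map F.O.subtype)) :=
      F.odd_card_O.of_dvd_nat (card_dvd_of_le (map_subtype_le _))
    refine GW.Mixed.Invol.inverts F.u_sq (hP F.u_mem_U) (fun f hf hfu => ?_) g hgP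
    have hfb : f ∈ zpowers b := I.heis.eq_zpow_b hW (map_subtype_le _ hf) (mul_inv_eq_iff_eq_mul.2 hfu)
    obtain ⟨w, hw, hwf⟩ := hf
    obtain ⟨k, hk⟩ := IsPGroup.iff_orderOf.1 P.2 ⟨w, hw⟩
    rw [Subgroup.orderOf_mk] at hk
    have hfk : orderOf f = l ^ k := by
      rw [← hwf, ← hk]; exact orderOf_injective F.O.subtype F.O.subtype_injective w
    have hd := orderOf_dvd_of_mem_zpowers hfb
    rw [I.heis.orderOf_b, hfk] at hd
    rcases k with _ | k
    · exact orderOf_eq_one_iff.1 (by rw [hfk, pow_zero])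
    · exact absurd ((Nat.prime_dvd_prime_iff_eq hl.out I.heis.hp).1 ((dvd_pow_self l k.succ_ne_zero).trans hd)) hlp
  have hc' : Commute ((o : G) * c * (o : G)⁻¹) g := (hc.pow_right m).map (MulAut.conj (o : G)).toMonoidHom
  have hot : (o : G) * D.t = D.t * o := D.mem_C.1 (D.O_le o.2)
  have hgl : IsPGroup l (zpowers g) := by
    have e : zpowers g = (zpowers x').map (MulAut.conj (o : G)).toMonoidHom := by
      rw [MonoidHom.map_zpowers]; rfl
    rw [e]
    exact hx'l.map _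
  have h := I.cent_inverted hW hgO hgu hgK hl.out hgl hc'
  calc c * D.t = (o : G)⁻¹ * ((o : G) * c * (o : G)⁻¹ * ((o : G) * D.t * (o : G)⁻¹)) * (o : G) := by group
    _ = (o : G)⁻¹ * ((o : G) * D.t * (o : G)⁻¹ * ((o : G) * c * (o : G)⁻¹)) * (o : G) := by
        rw [hot, mul_inv_cancel_right, h]
    _ = D.t * c := by group

end Data

end Cfsg.Lib.GWD.Inv
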