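import Cfsg.Agent.GWDihedral.Inverted.Action
import Cfsg.Agent.FourGroupGW.Inverted.Fixed

/-!
GW dihedral, inverted kind: `C_O(Y)` is inverted by both reflections, `s` centralises `O`, the two fixed groups
coincide and meet the kernel of the action on `Y / ⟨z⟩` in `⟨b⟩`.
-/

set_option autoImplicit false
set_option linter.unusedSectionVars false
set_option linter.style.haveILetI false

namespace Cfsg.Lib.GWD.Inv

open Subgroup Matrix

universe u

variable {G : Type u} [Group G] [Finite G]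

section Frame

variable (F : GW.Frame G) {p : ℕ} {Y : Subgroup G} {b d z : G} {S : Subgroup G}

/-- A rotating proper subgroup does not contain `z` and `d`. -/
theorem no_plane (hm : Minimal G) (H : GW.Heis F p Y b d z) (hloc : LocalSpec F p S) {N : Subgroup G}
    (hN : N ≠ ⊤) (hrot : Rot F N) (hz : z ∈ N) (hd : d ∈ N) : False := by
  haveI : Fact p.Prime := ⟨H.hp⟩
  have hzd : Commute z d := H.zc d H.dY
  set K := closure ({z, d} : Set G) with hK
  have hKY : K ≤ Y := (closure_le _).2 (by simp [Set.insert_subset_iff, H.zY, H.dY])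
  have hKN : K ≤ N := (closure_le _).2 (by simp [Set.insert_subset_iff, hz, hd])
  have hKinv : ∀ k ∈ K, F.u * k * F.u⁻¹ = k⁻¹ := by
    haveI : IsMulCommutative K := isMulCommutative_closure (by
      rintro a (rfl | rfl) b' (rfl | rfl)
      exacts [rfl, hzd.eq, hzd.eq.symm, rfl])
    intro k hk
    induction hk using closure_induction with
    | mem v hv => rcases hv with rfl | rfl; exacts [H.zinv, H.dinv]
    | one => simp
    | mul a c ha hc iha ihc =>
      have : a * c = c * a := congrArg Subtype.val (mul_comm' (⟨a, ha⟩ : K) ⟨c, hc⟩)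
      rw [← _root_.conj_mul, iha, ihc, ← _root_.mul_inv_rev, this]
    | inv a ha iha => rw [← _root_.conj_inv, iha]
  obtain ⟨g, hgK, hg⟩ := (hm.torusAll F N hN hrot.1).1 K (le_inf hKN (hKY.trans H.le))
    fun k hk => by rw [hKinv k hk, inv_mul_cancel]; exact one_mem _
  have hcore : ∀ c ∈ K, c ∈ GW.Core N → c = 1 := by
    intro c hc hcc
    have hct : F.t * c * F.t⁻¹ = c := mul_inv_eq_iff_eq_mul.2 (F.mem_C.1 (F.O_le (H.le (hKY hc)))).symm
    have hp' : IsPGroup p (zpowers c) := by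
      rcases eq_or_ne c 1 with rfl | hc1
      · rw [zpowers_one_eq_bot]; exact IsPGroup.of_bot
      · exact isPGroup_zpowers (orderOf_eq_prime (H.exp c (hKY hc)) hc1)
    have hfix := hloc.core_fixed N hN hrot (zpowers c) hp' (zpowers_le.2 hcc)
      (F.U_le_iff.2 ⟨zpowers_le_normalizer (Or.inl hct), zpowers_le_normalizer (Or.inr (hKinv c hc))⟩) (mem_zpowers c)
    exact GW.Frame.eq_one_of_fixed_inverted (GW.Frame.odd_orderOf F.odd_card_O (H.le (hKY hc)))
      (mul_inv_eq_iff_eq_mul.2 (F.mem_centralizer_U.1 hfix).2.symm) (hKinv c hc)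
  have hKg : ∀ k ∈ K, k ∈ zpowers g := by
    intro k hk
    have hgn : zpowers g ≤ normalizer (GW.Core N : Set G) :=
      ((zpowers_le.2 hgK).trans hKN).trans (GW.le_normalizer_core N)
    obtain ⟨x, hx, n, hn, e⟩ := (Cfsg.Lib.Coprime.mem_sup_of_le_normalizer' hgn).1
      (by rw [sup_comm]; exact hg hk)
    have hn1 : n = 1 := hcore n (by
      rw [show n = x⁻¹ * k by rw [← e, inv_mul_cancel_left]]
      exact K.mul_mem (K.inv_mem ((zpowers_le.2 hgK) hx)) hk) hn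
    rw [← e, hn1, mul_one]
    exact hx
  have h := GW.mem_zpowers_of_mem_cyclic H.hp (hKg z (subset_closure (by simp)))
    (hKg d (subset_closure (by simp))) (H.exp z H.zY) (H.exp d H.dY) H.z1
  have := congrFun (H.co_zpowers h) 1
  rw [H.co_d] at this
  simp at this

/-- No element of `W` centralises `Y`. -/
theorem inf_cent_eq_one (hm : Minimal G) (H : GW.Heis F p Y b d z) (hloc : LocalSpec F p S)
    (hscal : ∀ w ∈ F.W, H.mat w = H.mat w 0 0 • 1) : ∀ w ∈ F.W, (∀ v ∈ Y, Commute w v) → w = 1 := by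
  classical
  haveI : Fact p.Prime := ⟨H.hp⟩
  set V := F.W ⊓ centralizer (Y : Set G) with hV
  have hVc : ∀ a ∈ V, ∀ v ∈ Y, Commute a v := fun a ha v hv => (mem_centralizer_iff.1 ha.2 v hv).symm
  have hWU : ∀ w ∈ F.W, ∀ x ∈ F.U, x * w = w * x := fun w hw x hx =>
    mem_centralizer_iff.1 (F.W_le_centralizer_U hw) x hx
  have hcn : ∀ {a : G}, a ≠ 1 → centralizer ((zpowers a : Subgroup G) : Set G) ≠ ⊤ := fun {a} ha => by
    rw [Cfsg.Lib.Coprime.centralizer_zpowers]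
    exact Mixed.centralizer_ne_top hm ha
  have hmemc : ∀ a ∈ V, ∀ v ∈ Y, v ∈ centralizer ((zpowers a : Subgroup G) : Set G) := fun a ha v hv => by
    rw [Cfsg.Lib.Coprime.centralizer_zpowers]
    exact mem_centralizer_singleton_iff.2 (hVc a ha v hv).symm.eq
  have hVp : ∀ a ∈ V, ¬ p ∣ orderOf a := by
    intro a ha hdvd
    obtain ⟨m, hm'⟩ := hdvd
    have hm0 : 0 < m := Nat.pos_of_ne_zero fun h => (orderOf_pos a).ne' (by rw [hm', h, mul_zero])
    have hord : orderOf (a ^ m) = p := by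
      rw [orderOf_pow' _ hm0.ne', hm', Nat.gcd_eq_right (Dvd.intro_left _ rfl), Nat.mul_div_cancel _ hm0]
    have ha1 : a ^ m ≠ 1 := fun h => H.hp.one_lt.ne (by rw [← hord, h, orderOf_one])
    exact no_plane F hm H hloc (hcn ha1)
      (hloc.fusing_centralizer _ (zpowers_le.2 (pow_mem ha.1 m)) (isPGroup_zpowers hord) (zpowers_ne_bot.2 ha1))
      (hmemc _ (pow_mem ha m) z H.zY) (hmemc _ (pow_mem ha m) d H.dY)
  suffices hVbot : V = ⊥ by
    intro w hw hwY
    exact mem_bot.1 (hVbot ▸ Subgroup.mem_inf.2 ⟨hw, mem_centralizer_iff.2 fun v hv => (hwY v hv).eq.symm⟩)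
  by_contra hne
  obtain ⟨-, g, hgb, hgt, hgu⟩ := hloc.fusing_centralizer (zpowers b) (zpowers_le.2 H.b_mem_W)
    (isPGroup_zpowers H.orderOf_b) (zpowers_ne_bot.2 H.b1)
  have hgb' : Commute g b := (mem_centralizer_iff.1 hgb b (mem_zpowers b)).symm
  have hgv : g * (F.t * F.u) * g⁻¹ = F.t := by
    rw [← _root_.conj_mul, hgt, hgu, ← mul_assoc, ← F.comm, mul_assoc, F.u_sq, mul_one]
  have hgV : ∀ a ∈ V, g * a * g⁻¹ ∈ V := by
    intro a ha
    set a' := g * a * g⁻¹ with ha'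
    have hat : a' * F.t = F.t * a' := by
      rw [← hgv, ha', _root_.conj_mul, _root_.conj_mul, hWU a ha.1 _ (mul_mem F.t_mem_U F.u_mem_U)]
    have hau : a' * F.u = F.u * a' := by
      rw [← hgt, ha', _root_.conj_mul, _root_.conj_mul, hWU a ha.1 _ F.t_mem_U]
    have hord : orderOf a' = orderOf a := MulEquiv.orderOf_eq (MulAut.conj g) a
    have haW : a' ∈ F.W := F.mem_W.2 ⟨(hm.mem_O F).2 ⟨hat,
      hord ▸ GW.Frame.odd_orderOf F.odd_card_O (F.W_le ha.1)⟩, hau⟩
    have hC := F.O_le (F.W_le haW)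
    have hab : Commute a' b := by
      have h := (hVc a ha b H.bY).map (MulAut.conj g).toMonoidHom
      have e : g * b * g⁻¹ = b := mul_inv_eq_iff_eq_mul.2 hgb'.eq
      simpa [e] using h
    have h00 : H.mat a' 0 0 = 1 := by
      show GW.co Y p b d z (a' * b * a'⁻¹) 0 = 1
      rw [mul_inv_eq_iff_eq_mul.2 hab.eq, H.co_b]; rfl
    have hmat : H.mat a' = 1 := by rw [hscal a' haW, h00, one_smul]
    have haz : Commute a' z := (H.commute_z_iff_det hC).2 (by rw [hmat, Matrix.det_one])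
    exact Subgroup.mem_inf.2 ⟨haW, mem_centralizer_iff.2 fun v hv => (H.commute_of_mat_one hC
      ((Nat.Prime.coprime_iff_not_dvd H.hp).2 (hord ▸ hVp a ha)).symm haz hmat hv).eq.symm⟩
  have hgN : g ∈ normalizer (V : Set G) := by
    rw [mem_normalizer_iff_map_conj_eq]
    refine eq_of_le_of_card_ge ?_ (card_map_of_injective (MulAut.conj g).injective).ge
    rintro _ ⟨a, ha, rfl⟩
    exact hgV a ha
  refine no_plane F hm H hloc (N := normalizer (V : Set G)) ?_ ⟨fun x hx => centralizer_le_normalizer _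
      (mem_centralizer_iff.2 fun a ha => (hWU a ha.1 x hx).symm), g, hgN, hgt, hgu⟩
    (centralizer_le_normalizer _ (mem_centralizer_iff.2 fun a ha => (hVc a ha z H.zY).eq))
    (centralizer_le_normalizer _ (mem_centralizer_iff.2 fun a ha => (hVc a ha d H.dY).eq))
  intro h
  haveI : IsSimpleGroup G := hm.simple
  haveI : V.Normal := normalizer_eq_top_iff.1 h
  rcases (inferInstance : V.Normal).eq_bot_or_eq_top with h' | h'
  · exact hne h'
  · have hb : b ∈ V := h' ▸ mem_top b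
    exact H.z1 (by rw [← H.comm, (hVc b hb d H.dY).eq, mul_inv_cancel_right, mul_inv_cancel])

end Frame

variable {D : GWD.Frame G} {p : ℕ} {Y : Subgroup G} {b d z y : G} {S : Subgroup G}

namespace Data

variable (I : Data D p Y b d z y S)
include I

theorem rs_conj {v : G} (hv : v ∈ Y) : D.r * D.s * v * (D.r * D.s)⁻¹ = D.r * v * D.r⁻¹ := by
  rw [show D.r * D.s * v * (D.r * D.s)⁻¹ = D.r * (D.s * v * D.s⁻¹) * D.r⁻¹ by group,
    mul_inv_eq_iff_eq_mul.2 (I.s_centralizes hv).eq]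

/-- The same coordinates at the second four-group. -/
theorem heis₂ : GW.Heis D.four₂ p Y b d z where
  hp := I.heis.hp
  p2 := I.heis.p2
  le := I.heis.le
  norm := I.heis.norm
  bY := I.heis.bY
  dY := I.heis.dY
  zY := I.heis.zY
  bfix := (I.rs_conj I.heis.bY).trans I.heis.bfix
  dinv := (I.rs_conj I.heis.dY).trans I.heis.dinv
  zinv := (I.rs_conj I.heis.zY).trans I.heis.zinv
  exp := I.heis.exp
  z1 := I.heis.z1
  zc := I.heis.zc
  comm := I.heis.comm
  span := I.heis.span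

theorem mat_s_conj {o : G} (ho : o ∈ D.C) : I.heis.mat (D.s * o * D.s⁻¹) = I.heis.mat o := by
  have h := I.heis.mat_mul_inv (o := D.s) I.s_mem_C
  rw [I.mat_s, one_mul] at h
  rw [I.heis.mat_mul (mul_mem I.s_mem_C ho) (inv_mem I.s_mem_C), I.heis.mat_mul I.s_mem_C ho, h, I.mat_s, one_mul,
    mul_one]

/-- An element of `O` whose matrix commutes with that of `r` acts as a scalar. -/
theorem scalar_of {o : G} (ho : o ∈ D.O) (h : I.heis.mat (D.r * o * D.r⁻¹) = I.heis.mat o) :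
    I.heis.mat o = I.heis.mat o 0 0 • 1 := by
  haveI : Fact p.Prime := ⟨I.heis.hp⟩
  obtain ⟨f, hf, e, he, hfu, heu, rfl⟩ := GW.Frame.exists_fixed_mul_inverted D.odd_card_O I.r_sq
    (D.C_le_normalizer_O I.r_mem_C) ho
  have hfC := D.O_le hf
  have heC := D.O_le he
  rw [← _root_.conj_mul, hfu, heu, I.heis.mat_mul hfC (inv_mem heC), I.heis.mat_mul hfC heC] at h
  have h1 : I.heis.mat e⁻¹ = I.heis.mat e := by
    have := congrArg (fun M => I.heis.mat f⁻¹ * M) h
    simpa [← Matrix.mul_assoc, I.heis.mat_inv_mul hfC] using this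
  have h2 : I.heis.mat e = 1 := by
    have hee : I.heis.mat (e * e) = 1 := by
      rw [I.heis.mat_mul heC heC]
      nth_rw 1 [← h1]
      exact I.heis.mat_inv_mul heC
    obtain ⟨k, hk⟩ := exists_pow_eq_self_of_coprime (x := e) (n := 2)
      (Nat.coprime_two_left.2 (GW.Frame.odd_orderOf D.odd_card_O he))
    rw [← hk, I.heis.mat_pow (pow_mem heC 2), pow_two, hee, one_pow]
  have hfW : f ∈ D.four₁.W := D.four₁.mem_W.2 ⟨hf, (mul_inv_eq_iff_eq_mul.1 hfu).symm⟩
  obtain ⟨h01, h10⟩ := I.heis.mat_fixed hf hfu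
  have hd := I.heis.diag_eq I.yO I.yu I.yp I.ymove hfW
  rw [I.heis.mat_mul hfC heC, h2, Matrix.mul_one]
  ext i j; fin_cases i <;> fin_cases j <;> simp [h01, h10, hd]

theorem scalar₁ {w : G} (hw : w ∈ D.four₁.W) : I.heis.mat w = I.heis.mat w 0 0 • 1 := by
  obtain ⟨hwO, hwu⟩ := D.four₁.mem_W.1 hw
  exact I.scalar_of hwO (congrArg _ (mul_inv_eq_iff_eq_mul.2 hwu.symm))

theorem scalar₂ {w : G} (hw : w ∈ D.four₂.W) : I.heis₂.mat w = I.heis₂.mat w 0 0 • 1 := by
  obtain ⟨hwO, hwu⟩ := D.four₂.mem_W.1 hw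
  have hsw : D.s * w * D.s⁻¹ ∈ D.C := mul_mem (mul_mem I.s_mem_C (D.O_le hwO)) (inv_mem I.s_mem_C)
  refine I.scalar_of hwO ?_
  calc I.heis.mat (D.r * w * D.r⁻¹) = !![I.heis.mat w 0 0, -I.heis.mat w 0 1; -I.heis.mat w 1 0, I.heis.mat w 1 1] :=
        I.heis.mat_u (D.O_le hwO)
    _ = I.heis.mat (D.r * (D.s * w * D.s⁻¹) * D.r⁻¹) := by
        rw [← I.mat_s_conj (D.O_le hwO)]; exact (I.heis.mat_u hsw).symm
    _ = I.heis.mat w := congrArg _ (by
        rw [show D.r * (D.s * w * D.s⁻¹) * D.r⁻¹ = D.r * D.s * w * (D.r * D.s)⁻¹ by group]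
        exact mul_inv_eq_iff_eq_mul.2 hwu.symm)

theorem W₁_cent {w : G} (hw : w ∈ D.four₁.W) (h : ∀ v ∈ Y, Commute w v) : w = 1 :=
  inf_cent_eq_one D.four₁ I.hm I.heis I.loc₁ (fun _ => I.scalar₁) w hw h

theorem W₂_cent {w : G} (hw : w ∈ D.four₂.W) (h : ∀ v ∈ Y, Commute w v) : w = 1 :=
  inf_cent_eq_one D.four₂ I.hm I.heis₂ I.loc₂ (fun _ => I.scalar₂) w hw h

/-- A reflection without fixed points on `C_O(Y)` inverts it. -/
theorem inverts_cent {v : G} (hv : v ∈ D.C) (hv2 : v * v = 1)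
    (hfix : ∀ w ∈ D.O, v * w = w * v → (∀ u' ∈ Y, Commute w u') → w = 1) {a : G} (ha : a ∈ D.O)
    (hac : ∀ u' ∈ Y, Commute a u') : v * a * v⁻¹ = a⁻¹ := by
  have hn : v ∈ normalizer ((D.O ⊓ centralizer (Y : Set G) : Subgroup G) : Set G) :=
    inf_normalizer_le_normalizer_inf (Subgroup.mem_inf.2 ⟨D.C_le_normalizer_O hv,
      Cfsg.Lib.Thompson.normalizer_le_normalizer_centralizer _ (I.heis.norm hv)⟩)
  exact GW.Mixed.Invol.inverts hv2 hn (fun w hw hwv => hfix w hw.1 hwv fun u' hu' =>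
    (mem_centralizer_iff.1 hw.2 u' hu').symm) a
    (Subgroup.mem_inf.2 ⟨ha, mem_centralizer_iff.2 fun u' hu' => (hac u' hu').eq.symm⟩)

theorem r_inverts_cent {a : G} (ha : a ∈ D.O) (hac : ∀ u' ∈ Y, Commute a u') : D.r * a * D.r⁻¹ = a⁻¹ :=
  I.inverts_cent I.r_mem_C I.r_sq (fun _ hw hwv h => I.W₁_cent (D.four₁.mem_W.2 ⟨hw, hwv.symm⟩) h) ha hac

theorem rs_inverts_cent {a : G} (ha : a ∈ D.O) (hac : ∀ u' ∈ Y, Commute a u') :
    D.r * D.s * a * (D.r * D.s)⁻¹ = a⁻¹ :=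
  I.inverts_cent (D.S_le_C (Mixed.rs_mem_S D)) (Cfsg.Lib.GenDihedral.mul_self_of_two D.rs_order)
    (fun _ hw hwv h => I.W₂_cent (D.four₂.mem_W.2 ⟨hw, hwv.symm⟩) h) ha hac

/-- An element of the kernel is a product of one of `Y` and one centralising `Y`. -/
theorem ker_decomp {k : G} (hk : k ∈ D.O) (hmat : I.heis.mat k = 1) :
    ∃ v ∈ Y, ∃ a ∈ D.O, (∀ u' ∈ Y, Commute a u') ∧ k = v * a := by
  haveI : Fact p.Prime := ⟨I.heis.hp⟩
  have hkC := D.O_le hk
  have hkz : Commute k z := (I.heis.commute_z_iff_det hkC).2 (by rw [hmat, Matrix.det_one])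
  obtain ⟨i, hi⟩ := mem_powers_iff_mem_zpowers.2 (I.heis.conj_mem_zpowers hkC hmat I.heis.dY)
  obtain ⟨m, hm⟩ := mem_powers_iff_mem_zpowers.2 (inv_mem (I.heis.conj_mem_zpowers hkC hmat I.heis.bY))
  have ed : k * d * k⁻¹ = z ^ i * d := (mul_inv_eq_iff_eq_mul.1 hi.symm)
  have eb : k * b * k⁻¹ = (z ^ m)⁻¹ * b := by
    rw [show z ^ m = (k * b * k⁻¹ * b⁻¹)⁻¹ from hm, inv_inv, inv_mul_cancel_right]
  set v := b ^ i * d ^ m * z ^ 0 with hv
  have hvY : v ∈ Y := mul_mem (mul_mem (pow_mem I.heis.bY i) (pow_mem I.heis.dY m)) (pow_mem I.heis.zY 0)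
  have key : ∀ w, k * w * k⁻¹ = v * w * v⁻¹ → Commute (v⁻¹ * k) w := fun w h => by
    show v⁻¹ * k * w = w * (v⁻¹ * k)
    calc v⁻¹ * k * w = v⁻¹ * (k * w * k⁻¹) * k := by group
      _ = _ := by rw [h]; group
  have hcb := key b (by rw [eb, hv, I.heis.nf_conj_b])
  have hcd := key d (by rw [ed, hv, I.heis.nf_conj_d])
  have hcz := key z (by
    rw [mul_inv_eq_iff_eq_mul.2 hkz.eq, mul_inv_eq_iff_eq_mul.2 (I.heis.zc v hvY).eq.symm])
  refine ⟨v, hvY, v⁻¹ * k, mul_mem (inv_mem (I.heis.le hvY)) hk, fun u' hu' => ?_, (mul_inv_cancel_left _ _).symm⟩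
  obtain ⟨i', j', k', rfl⟩ := I.heis.span u' hu'
  exact ((hcb.pow_right i').mul_right (hcd.pow_right j')).mul_right (hcz.pow_right k')

theorem s_commute_ker {k : G} (hk : k ∈ D.O) (hmat : I.heis.mat k = 1) : Commute D.s k := by
  obtain ⟨v, hv, a, ha, hac, rfl⟩ := I.ker_decomp hk hmat
  refine (I.s_centralizes hv).mul_right (mul_inv_eq_iff_eq_mul.1 ?_)
  have h := I.rs_inverts_cent ha hac
  have h2 := I.r_inverts_cent ha hac
  rw [show D.r * D.s * a * (D.r * D.s)⁻¹ = D.r * (D.s * a * D.s⁻¹) * D.r⁻¹ by group, ← h2] at h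
  exact (MulAut.conj D.r).injective h

/-- `s` centralises `O`. -/
theorem s_commute_O {o : G} (ho : o ∈ D.O) : Commute D.s o := by
  have hsO : D.s * o * D.s⁻¹ ∈ D.O := (mem_normalizer_iff.1 (D.C_le_normalizer_O I.s_mem_C) o).1 ho
  set c := D.s * o * D.s⁻¹ * o⁻¹ with hc
  have hcO : c ∈ D.O := mul_mem hsO (inv_mem ho)
  have hcmat : I.heis.mat c = 1 := by
    rw [hc, I.heis.mat_mul (D.O_le hsO) (inv_mem (D.O_le ho)), I.mat_s_conj (D.O_le ho)]
    exact I.heis.mat_mul_inv (D.O_le ho)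
  have hsc := I.s_commute_ker hcO hcmat
  have hn : ∀ n : ℕ, D.s ^ n * o * (D.s ^ n)⁻¹ = c ^ n * o := by
    intro n
    induction n with
    | zero => simp
    | succ n ih =>
      rw [pow_succ', show D.s * D.s ^ n * o * (D.s * D.s ^ n)⁻¹ = D.s * (D.s ^ n * o * (D.s ^ n)⁻¹) * D.s⁻¹ by
          group, ih, ← _root_.conj_mul, mul_inv_eq_iff_eq_mul.2 (hsc.pow_right n).eq,
        show D.s * o * D.s⁻¹ = c * o by rw [hc, inv_mul_cancel_right], ← mul_assoc, ← pow_succ]
  have h1 := hn (orderOf D.s)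
  rw [pow_orderOf_eq_one] at h1
  simp only [one_mul, inv_one, mul_one] at h1
  have h2 : c ^ 2 ^ (D.n - 1) = 1 := by
    rw [← D.s_order]; exact mul_eq_right.1 h1.symm
  have h3 : c = 1 := orderOf_eq_one_iff.1 (Nat.eq_one_of_dvd_coprimes
    ((Nat.coprime_two_left.2 (GW.Frame.odd_orderOf D.odd_card_O hcO)).pow_left _) (orderOf_dvd_of_pow_eq_one h2)
    dvd_rfl)
  exact mul_inv_eq_iff_eq_mul.1 (mul_inv_eq_one.1 h3)

/-- The two fixed groups coincide. -/
theorem W_eq : D.four₁.W = D.four₂.W := by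
  ext w
  rw [GW.Frame.mem_W, GW.Frame.mem_W]
  refine and_congr_right fun hw => ?_
  have hsw : Commute D.s w := I.s_commute_O hw
  exact ⟨fun h => ((show Commute w D.r from h).mul_right hsw.symm).eq, fun h => by
    have := (show Commute w (D.r * D.s) from h).mul_right hsw.symm.inv_right
    rwa [mul_inv_cancel_right] at this⟩

theorem w_eq : D.w₁ = D.w₂ := by rw [GWD.Frame.w₁, GWD.Frame.w₂, I.W_eq]

/-- `W` meets the kernel in `⟨b⟩`. -/
theorem W_ker {w : G} (hw : w ∈ D.four₁.W) (hmat : I.heis.mat w = 1) : w ∈ zpowers b := by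
  obtain ⟨hwO, hwu⟩ := D.four₁.mem_W.1 hw
  obtain ⟨v, hv, a, ha, hac, rfl⟩ := I.ker_decomp hwO hmat
  have hu : D.r * (v * a) * D.r⁻¹ = v * a := mul_inv_eq_iff_eq_mul.2 hwu.symm
  have hrv : D.r * v * D.r⁻¹ ∈ Y := I.heis.mem_Y_conj I.r_mem_C hv
  have haY : a * a ∈ Y := by
    rw [← _root_.conj_mul, I.r_inverts_cent ha hac] at hu
    have : a * a = v⁻¹ * (D.r * v * D.r⁻¹) := by
      have := congrArg (fun q => v⁻¹ * q * a) hu
      simp only [← mul_assoc, inv_mul_cancel_right] at this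
      simpa [mul_assoc] using this.symm
    rw [this]
    exact mul_mem (inv_mem hv) hrv
  have haY' : a ∈ Y := Cfsg.Lib.GenDihedral.mem_of_sq (GW.Frame.odd_orderOf D.odd_card_O ha) haY
  obtain ⟨i, hi⟩ := I.heis.fixed_eq (mul_mem hv haY') hu
  exact hi ▸ pow_mem (mem_zpowers b) i

end Data

end Cfsg.Lib.GWD.Inv
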