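import Cfsg.Agent.GWDihedral.Mixed.Split3
import Cfsg.Agent.GWDihedral.Mixed.MovedCore
import Cfsg.Agent.GWDihedral.Local.Main
import Cfsg.Agent.FourGroupGW.Inverted.Matrices
import Cfsg.Agent.FourGroupGW.Inverted.Setup

/-!
GW dihedral, a prime of kind `(s)` which is not mixed: it is at least five, both reflections move the invariant Sylow
subgroup, and `O_p(O)` contains the extraspecial group `Y`.
-/

set_option autoImplicit false
set_option linter.unusedSectionVars false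
set_option linter.style.haveILetI false

namespace Cfsg.Lib.GWD.Inv

open Subgroup

universe u

variable {G : Type u} [Group G] [Finite G]

/-- The data of the inverted kind. -/
structure Data (D : GWD.Frame G) (p : ℕ) (Y : Subgroup G) (b d z y : G) (S : Subgroup G) : Prop where
  hm : Minimal G
  hmax : IsCoatom D.C
  heis : GW.Heis D.four₁ p Y b d z
  p5 : 5 ≤ p
  sylData : SylData D.four₁ p S
  S_norm : D.S ≤ normalizer (S : Set G)
  Y_le : Y ≤ S
  loc₁ : LocalSpec D.four₁ p S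
  loc₂ : LocalSpec D.four₂ p S
  yO : y ∈ D.O
  yu : D.r * y * D.r⁻¹ = y⁻¹
  yp : ¬ p ∣ orderOf y
  ymove : ∃ v ∈ Y, y * v ≠ v * y

theorem sl_two_three : ∀ a b c : ZMod 3, a * a - b * c = 1 → b ≠ 0 → c ≠ 0 → a = 0 ∧ b * c = -1 := by decide

theorem exists_data (hm : Minimal G) (D : GWD.Frame G) (hmax : IsCoatom D.C) {p : ℕ} (hKS : D.four₁.KindS p)
    (hno : ¬ D.four₁.KindMixed p) : ∃ (Y : Subgroup G) (b d z y : G) (S : Subgroup G), Data D p Y b d z y S := by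
  set F := D.four₁ with hF
  have hp := hKS.1
  haveI : Fact p.Prime := ⟨hp⟩
  obtain ⟨x, hx, hxu⟩ := GW.Frame.u_moves_R hKS
  obtain ⟨S, hd, hSn, hRS, -⟩ := Mixed.exists_sylData D hp hx hxu
  have hp2 : p ≠ 2 := hd.ne_two
  have hU₁ : F.U ≤ normalizer (S : Set G) := F.U_le_iff.2 ⟨hSn D.t_mem_S, hSn D.r_mem_S⟩
  have hU₂ : D.four₂.U ≤ normalizer (S : Set G) :=
    D.four₂.U_le_iff.2 ⟨hSn D.t_mem_S, hSn (Mixed.rs_mem_S D)⟩
  -- `r s` moves the Sylow subgroup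
  obtain ⟨w, hw, hwm⟩ : ∃ w ∈ F.R p, ¬ w * (D.r * D.s) = D.r * D.s * w := by
    by_contra hfix
    push Not at hfix
    by_cases h3 : p = 3 ∧ D.n = 3
    · obtain ⟨rfl, hn⟩ := h3
      exact (Mixed.not_kinds_three D hm hmax hn hfix).1 hKS
    have h3' : p ≠ 3 ∨ 4 ≤ D.n := by
      have := D.three_le
      rcases not_and_or.1 h3 with h | h
      · exact Or.inl h
      · exact Or.inr (by omega)
    obtain ⟨-, hc, -⟩ := D.cent_inv_of_ne_three hm hmax (fun V => hm.properSpec V) hd hSn h3'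
    -- `r` fixes some element of `O_p(O)`
    obtain ⟨a₀, ha₀, ha₀u, ha₀1⟩ : ∃ a ∈ F.R p, D.r * a * D.r⁻¹ = a ∧ a ≠ 1 := by
      by_contra hnone
      push Not at hnone
      obtain ⟨-, y, hy, hyu, -, r₀, hr₀, hyr⟩ := hKS
      have hinv : ∀ e ∈ F.R p, F.u * e * F.u⁻¹ = e⁻¹ :=
        GW.Mixed.Invol.inverts F.u_sq (GW.Mixed.u_mem_normalizer_R p) fun e he heu =>
          hnone e he (mul_inv_eq_iff_eq_mul.2 heu)
      exact hyr (GW.commute_of_conj_inverted (GW.Frame.odd_orderOf F.odd_card_O hy) hyu (hinv r₀ hr₀)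
        (hinv _ ((mem_normalizer_iff.1 (GW.Mixed.O_le_normalizer_R p hy) r₀).1 hr₀))).eq
    exact Mixed.nonfull_false D hm (hm.invertsSpec _) hp2 h3' hc hfix hx hxu ha₀ ha₀u ha₀1
  have hwm' : D.r * D.s * w * (D.r * D.s)⁻¹ ≠ w := fun e => hwm (mul_inv_eq_iff_eq_mul.1 e).symm
  obtain ⟨loc₁, loc₂⟩ := hm.local_both D hmax hp hd.ne_bot
    ⟨hd.le, hd.pgroup, hd.sylow, hU₁, x, hRS hx, hxu⟩ ⟨hd.le, hd.pgroup, hd.sylow, hU₂, w, hRS hw, hwm'⟩ hSn
  obtain ⟨Y, b, d, z, H, hYR, y, hy, hyu, hyp, hmove⟩ := GW.Frame.exists_heis_of hKS hno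
    fun Y hYR _ a ha hau ha1 => by
      obtain ⟨g, -, -, hg⟩ := loc₁.inverted_cyclic (zpowers a)
        (zpowers_le.2 (F.mem_W.2 ⟨F.R_le p (hYR ha), (mul_inv_eq_iff_eq_mul.1 hau).symm⟩))
        (zpowers_le.2 (hRS (hYR ha))) (zpowers_ne_bot.2 ha1)
      refine ⟨g, fun e he heu hae => hg e ⟨hRS (hYR he), mem_centralizer_iff.2 fun v hv => ?_⟩ heu⟩
      obtain ⟨i, rfl⟩ := mem_zpowers_iff.1 hv
      exact (hae.zpow_left i).eq
  have h3 : p ≠ 3 := by
    rintro rfl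
    obtain ⟨hc, he⟩ := H.offdiag_ne_zero hy hyu hyp hmove
    obtain ⟨hdiag, hdet⟩ := H.mat_inverted hy hyu
    have hpow : H.mat y ^ orderOf y = 1 := by rw [← H.mat_pow (F.O_le hy), pow_orderOf_eq_one, H.mat_one]
    -- the trace vanishes
    obtain ⟨ha0, hbc⟩ := sl_two_three _ _ _ hdet hc he
    have hsq : H.mat y * H.mat y = -1 := by
      ext i j
      fin_cases i <;> fin_cases j <;> simp [Matrix.mul_apply, Fin.sum_univ_two, hdiag, ha0, hbc] <;>
        rw [mul_comm, hbc]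
    obtain ⟨k, hk⟩ := GW.Frame.odd_orderOf F.odd_card_O hy
    rw [hk, pow_succ, pow_mul, pow_two, hsq] at hpow
    have h01 := congrFun (congrFun hpow 0) 1
    rcases neg_one_pow_eq_or (R := Matrix (Fin 2) (Fin 2) (ZMod 3)) k with e | e <;> rw [e] at h01 <;>
      simp at h01 <;> exact hc h01
  refine ⟨Y, b, d, z, y, S, hm, hmax, H, ?_, hd, hSn, hYR.trans hRS, loc₁, loc₂, hy, hyu, hyp, hmove⟩
  have h2 := hp.two_le
  have h4 : p ≠ 4 := fun e => by rw [e] at hp; exact absurd hp (by norm_num)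
  omega

end Cfsg.Lib.GWD.Inv
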