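import Cfsg.Agent.GWDihedral.Inverted.Quot
import Cfsg.Agent.GWDihedral.Proper.Top
import Cfsg.Agent.FourGroupGW.Inverted.Tools
import Cfsg.Agent.AltEightType.Core

/-!
GW dihedral, inverted kind: the normaliser of a cyclic group `⟨n⟩` of odd order centralised by `t` and inverted by
`u`, with a `p`-element outside its core centralising `n` and `t`.  There `t` is inner and `u` is outer.
-/

set_option autoImplicit false
set_option linter.unusedSectionVars false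
set_option linter.style.haveILetI false

namespace Cfsg.Lib.GWD.Inv

open Subgroup
open Cfsg.Lib.GenDihedral (IsFour mul_self_of_two inv_of_two eq_one_of_sq_of_odd mem_of_sq mem_cent)
open Cfsg.Lib.GW (Core qmap qmap_eq qmap_eq_one core_le le_normalizer_core)
open Cfsg.Lib.GW.Frame (exists_fixed_mul_inverted)

universe u

variable {G : Type u} [Group G] [Finite G]

/-- The hypotheses on `n` and `z`. -/
structure Norm (V : Cfsg.Lib.GW.Frame G) (p : ℕ) (n z : G) : Prop where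
  hm : Minimal G
  n_odd : Odd (orderOf n)
  n_ne : n ≠ 1
  n_t : V.t * n * V.t⁻¹ = n
  n_u : V.u * n * V.u⁻¹ = n⁻¹
  hp : p.Prime
  p2 : p ≠ 2
  p3 : p ≠ 3
  z_ord : orderOf z = p
  z_t : V.t * z * V.t⁻¹ = z
  z_u : V.u * z * V.u⁻¹ = z⁻¹
  z_n : z * n = n * z
  z_core : z ∉ Core (normalizer ((zpowers n : Subgroup G) : Set G))

namespace Norm

variable {V : Cfsg.Lib.GW.Frame G} {p : ℕ} {n z : G} (c : Norm V p n z)
include c

theorem mem_normalizer {x : G} (h : x * n * x⁻¹ = n ∨ x * n * x⁻¹ = n⁻¹) :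
    x ∈ normalizer ((zpowers n : Subgroup G) : Set G) := by
  rw [mem_normalizer_iff_map_conj_eq, MonoidHom.map_zpowers]
  show zpowers (x * n * x⁻¹) = zpowers n
  rcases h with h | h <;> rw [h]
  rw [zpowers_inv]

theorem U_le : V.U ≤ normalizer ((zpowers n : Subgroup G) : Set G) :=
  V.U_le_iff.2 ⟨c.mem_normalizer (Or.inl c.n_t), c.mem_normalizer (Or.inr c.n_u)⟩

theorem z_mem : z ∈ normalizer ((zpowers n : Subgroup G) : Set G) :=
  c.mem_normalizer (Or.inl (mul_inv_eq_iff_eq_mul.2 c.z_n))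

theorem ne_top : normalizer ((zpowers n : Subgroup G) : Set G) ≠ ⊤ := by
  intro h
  haveI := c.hm.simple
  haveI : (zpowers n).Normal := normalizer_eq_top_iff.1 h
  rcases (inferInstance : (zpowers n).Normal).eq_bot_or_eq_top with h' | h'
  · exact c.n_ne (zpowers_eq_bot.1 h')
  · refine c.hm.nonab ⟨⟨fun x y => ?_⟩⟩
    obtain ⟨i, rfl⟩ := mem_zpowers_iff.1 (h' ▸ mem_top x : x ∈ zpowers n)
    obtain ⟨j, rfl⟩ := mem_zpowers_iff.1 (h' ▸ mem_top y : y ∈ zpowers n)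
    rw [← zpow_add, ← zpow_add, add_comm]

/-- `t` is inner, `u` is outer and `z` gives an element of order `p` of `L`. -/
theorem top : ∃ (L : Subgroup (normalizer ((zpowers n : Subgroup G) : Set G) ⧸
      Cfsg.oddCore (normalizer ((zpowers n : Subgroup G) : Set G)))), TopData L ∧ V.tb c.U_le ∈ L ∧
    V.ub c.U_le ∉ L ∧ qmap _ ⟨z, c.z_mem⟩ ∈ L ∧ orderOf (qmap _ ⟨z, c.z_mem⟩) = p := by
  set H := normalizer ((zpowers n : Subgroup G) : Set G) with hH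
  have hU : V.U ≤ H := c.U_le
  have hpodd : Odd p := c.hp.odd_of_ne_two c.p2
  rcases c.hm.cases V hU c.ne_top with h2 | ⟨L, D, -, -⟩
  · exact absurd (qmap_eq_one.1 (eq_one_of_two_q h2 c.z_mem (c.z_ord ▸ hpodd))) c.z_core
  haveI := D.normal
  have F4 := V.four_q hU
  set zb := qmap H ⟨z, c.z_mem⟩ with hzb
  have hzb1 : zb ≠ 1 := fun e => c.z_core (qmap_eq_one.1 e)
  have hzbo : orderOf zb = p := by
    haveI : Fact p.Prime := ⟨c.hp⟩
    refine orderOf_eq_prime ?_ hzb1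
    rw [hzb, ← map_pow, show (⟨z, c.z_mem⟩ : H) ^ p = 1 from Subtype.ext (by
      show z ^ p = 1; rw [← c.z_ord, pow_orderOf_eq_one]), map_one]
  have hzinv : V.ub hU * zb * (V.ub hU)⁻¹ = zb⁻¹ := by
    rw [hzb, Cfsg.Lib.GW.Frame.ub, ← map_inv, ← map_mul, ← map_mul, ← map_inv]
    exact congrArg _ (Subtype.ext c.z_u)
  have hzL : zb ∈ L := D.mem_of_inverted F4.t2 (hzbo ▸ hpodd) hzinv
  -- the image of the centraliser of `n`
  haveI : ((centralizer ((zpowers n : Subgroup G) : Set G)).subgroupOf H).Normal :=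
    normal_subgroupOf_of_le_normalizer (Cfsg.Lib.Thompson.normalizer_le_normalizer_centralizer _)
  set A := ((centralizer ((zpowers n : Subgroup G) : Set G)).subgroupOf H).map (qmap H) with hA
  haveI : A.Normal := Subgroup.Normal.map inferInstance _ (QuotientGroup.mk'_surjective _)
  have hmemA : ∀ (x : G) (hx : x ∈ H), x * n * x⁻¹ = n → qmap H ⟨x, hx⟩ ∈ A := fun x hx h =>
    mem_map_of_mem _ (mem_subgroupOf.2 (mem_centralizer_iff.2 fun w hw => by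
      obtain ⟨i, rfl⟩ := mem_zpowers_iff.1 hw
      exact ((show Commute x n from mul_inv_eq_iff_eq_mul.1 h).zpow_right i).eq.symm))
  have htA : V.tb hU ∈ A := hmemA _ _ c.n_t
  have huA : V.ub hU ∉ A := by
    rintro ⟨w, hw, e⟩
    have hw' := mem_centralizer_iff.1 (mem_subgroupOf.1 hw) n (mem_zpowers n)
    have hk : (w : G)⁻¹ * V.u ∈ Core H := qmap_eq.1 e
    set k := (w : G)⁻¹ * V.u with hkd
    have hkn : k * n * k⁻¹ = n⁻¹ := by
      rw [hkd, show (w : G)⁻¹ * V.u * n * ((w : G)⁻¹ * V.u)⁻¹ = (w : G)⁻¹ * (V.u * n * V.u⁻¹) * w by group, c.n_u,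
        show (w : G)⁻¹ * n⁻¹ * w = ((w : G)⁻¹ * (n * w))⁻¹ by group, hw', inv_mul_cancel_left]
    have hko := Cfsg.Lib.GW.Frame.odd_orderOf (Cfsg.Lib.GW.Frame.odd_card_core H) hk
    have hk2 : Commute (k * k) n := by
      refine mul_inv_eq_iff_eq_mul.1 ?_
      rw [show k * k * n * (k * k)⁻¹ = k * (k * n * k⁻¹) * k⁻¹ by group, hkn, ← conj_inv, hkn, inv_inv]
    have hkc := Cfsg.Lib.GW.commute_of_sq hko hk2
    rw [hkc.eq, mul_inv_cancel_right] at hkn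
    exact c.n_ne (eq_one_of_sq_of_odd (eq_inv_iff_mul_eq_one.1 hkn) c.n_odd)
  have hsame : ∀ a b, orderOf a = 2 → orderOf b = 2 → a ∈ L → b ∈ L → a ∈ A → b ∈ A := by
    intro a b ha hb haL hbL haA
    obtain ⟨l, -, hl⟩ := D.conj a b ha hb haL hbL
    rw [← hl]
    exact Subgroup.Normal.conj_mem inferInstance a haA l
  have htL : V.tb hU ∈ L := by
    by_contra ht
    obtain ⟨i, hiL, hi, hiA⟩ : ∃ i, i ∈ L ∧ orderOf i = 2 ∧ i ∉ A := by
      by_cases hu : V.ub hU ∈ L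
      · exact ⟨_, hu, F4.t2, huA⟩
      · exact ⟨_, D.coset _ _ F4.z2 F4.t2 ht hu, F4.s2, fun h => huA (by
          simpa [← mul_assoc] using mul_mem (inv_mem htA) h)⟩
    by_cases hev : 2 ∣ Nat.card ↥(A ⊓ L)
    · haveI : Fact (Nat.Prime 2) := ⟨Nat.prime_two⟩
      obtain ⟨a, ha⟩ := exists_prime_orderOf_dvd_card' 2 hev
      rw [← orderOf_coe] at ha
      exact hiA (hsame _ i ha hi (Subgroup.mem_inf.1 a.2).2 hiL (Subgroup.mem_inf.1 a.2).1)
    · have hodd : Odd (Nat.card ↥(A ⊓ L)) := Nat.not_even_iff_odd.1 fun h => hev h.two_dvd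
      have h1 := @Cfsg.Lib.Components.le_pPrimeCore _ _ 2 (A ⊓ L) inferInstance (Nat.coprime_two_right.2 hodd)
      rw [Cfsg.Lib.Components.pPrimeCore_quotient_eq_bot] at h1
      exact hzb1 (mem_bot.1 (h1 (Subgroup.mem_inf.2
        ⟨hmemA z c.z_mem (mul_inv_eq_iff_eq_mul.2 c.z_n), hzL⟩)))
  exact ⟨L, D, htL, fun hu => huA (hsame _ _ F4.z2 F4.t2 htL hu htA), hzL, hzbo⟩

/-- An element of odd order of the centraliser of `n`, inverted by `t` and centralised by `u` or `t u`. -/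
theorem exists_torus : ∃ v y : G, (y = V.u ∨ y = V.t * V.u) ∧ Odd (orderOf v) ∧ v ≠ 1 ∧
    V.t * v * V.t⁻¹ = v⁻¹ ∧ y * v = v * y ∧ v * n = n * v := by
  obtain ⟨L, D, htL, huL, hzL, hzo⟩ := c.top
  set H := normalizer ((zpowers n : Subgroup G) : Set G) with hH
  have hU : V.U ≤ H := c.U_le
  haveI := D.normal
  have F4 := V.four_q hU
  have hpodd : Odd p := c.hp.odd_of_ne_two c.p2
  have hz1 : qmap H ⟨z, c.z_mem⟩ ≠ 1 := fun e => c.hp.one_lt.ne (by rw [← hzo, e, orderOf_one])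
  obtain ⟨vb, -, yb, hyb, hvo, hv1, hvt, hvy⟩ := exists_odd_fixed D (c.hm.rankTwo_q V hU) F4.z2 htL F4.t2 huL
    (by
      rw [Cfsg.Lib.GW.Frame.tb, Cfsg.Lib.GW.Frame.ub, ← map_mul, ← map_mul]
      exact congrArg _ (Subtype.ext V.comm))
    hzL (by rw [hzo]; exact hpodd) hz1 (fun e => c.p3 ((Nat.prime_dvd_prime_iff_eq c.hp Nat.prime_three).1
      (hzo ▸ orderOf_dvd_of_pow_eq_one e))) (by
      rw [Cfsg.Lib.GW.Frame.tb, ← map_mul, ← map_mul]
      exact congrArg _ (Subtype.ext (mul_inv_eq_iff_eq_mul.1 c.z_t).symm))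
  obtain ⟨y, hy, hyH, hyq⟩ : ∃ y, (y = V.u ∨ y = V.t * V.u) ∧ ∃ hy : y ∈ H, qmap H ⟨y, hy⟩ = yb := by
    rcases hyb with rfl | rfl
    · exact ⟨V.u, Or.inl rfl, (V.U_le_iff.1 hU).2, rfl⟩
    · exact ⟨V.t * V.u, Or.inr rfl, mul_mem (V.U_le_iff.1 hU).1 (V.U_le_iff.1 hU).2, map_mul (qmap H)
        ⟨V.t, (V.U_le_iff.1 hU).1⟩ ⟨V.u, (V.U_le_iff.1 hU).2⟩⟩
  have hyy : y * y = 1 := by
    rcases hy with rfl | rfl
    · exact V.u_sq
    · exact V.v_sq
  -- the odd preimage of `⟨vb⟩`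
  set K₀ := (zpowers vb).comap (qmap H) with hK₀
  have hK₀odd : Odd (Nat.card K₀) := by
    rw [← Subgroup.card_mul_index ((qmap H).ker.subgroupOf K₀)]
    refine Odd.mul ?_ ?_
    · rw [Nat.card_congr (subgroupOfEquivOfLe ((qmap H).ker_le_comap _)).toEquiv, QuotientGroup.ker_mk']
      exact Cfsg.Lib.AltEightType.odd_oddCore H
    · rw [show ((qmap H).ker.subgroupOf K₀).index = (qmap H).ker.relIndex K₀ from rfl, relIndex_ker,
        hK₀, map_comap_eq_self_of_surjective (QuotientGroup.mk'_surjective _), Nat.card_zpowers]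
      exact hvo
  set K := K₀.map H.subtype with hK
  have hKodd : Odd (Nat.card K) := by rwa [hK, card_map_of_injective H.subtype_injective]
  have hmemK : ∀ (w : G) (hw : w ∈ H), w ∈ K ↔ qmap H ⟨w, hw⟩ ∈ zpowers vb := fun w hw =>
    ⟨fun ⟨w', h', e⟩ => by
      rw [show (⟨w, hw⟩ : H) = w' from Subtype.ext e.symm]; exact h', fun h => ⟨⟨w, hw⟩, h, rfl⟩⟩
  have hnorm : ∀ (s : G) (hs : s ∈ H), (qmap H ⟨s, hs⟩ * vb * (qmap H ⟨s, hs⟩)⁻¹ = vb ∨
      qmap H ⟨s, hs⟩ * vb * (qmap H ⟨s, hs⟩)⁻¹ = vb⁻¹) → s * s = 1 → s ∈ normalizer (K : Set G) := by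
    intro s hs hsv hss
    have key : ∀ w ∈ K, s * w * s⁻¹ ∈ K := by
      intro w hw
      have hwH : w ∈ H := map_subtype_le K₀ hw
      rw [hmemK _ (mul_mem (mul_mem hs hwH) (inv_mem hs))]
      obtain ⟨i, hi⟩ := mem_zpowers_iff.1 ((hmemK w hwH).1 hw)
      rw [show (⟨s * w * s⁻¹, _⟩ : H) = ⟨s, hs⟩ * ⟨w, hwH⟩ * ⟨s, hs⟩⁻¹ from rfl, map_mul, map_mul, map_inv, ← hi,
        ← conj_zpow]
      rcases hsv with e | e <;> rw [e]
      · exact zpow_mem (mem_zpowers vb) i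
      · exact zpow_mem (inv_mem (mem_zpowers vb)) i
    refine mem_normalizer_iff.2 fun w => ⟨key w, fun hw => ?_⟩
    have := key _ hw
    rwa [show s * (s * w * s⁻¹) * s⁻¹ = (s * s) * w * (s * s)⁻¹ by group, hss, inv_one, mul_one, one_mul] at this
  have hyK : y ∈ normalizer (K : Set G) :=
    hnorm y hyH (Or.inl (by rw [hyq, hvy, mul_inv_cancel_right])) hyy
  have htK : V.t ∈ normalizer (K : Set G) := hnorm V.t (V.U_le_iff.1 hU).1 (Or.inr hvt) V.t_sq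
  obtain ⟨w₀, hw₀⟩ := QuotientGroup.mk'_surjective (Cfsg.oddCore H) vb
  have hw₀K : (w₀ : G) ∈ K := ⟨w₀, mem_comap.2 (by rw [show qmap H w₀ = vb from hw₀]; exact mem_zpowers vb), rfl⟩
  obtain ⟨f, hf, e, he, hfy, hey, hfe⟩ := exists_fixed_mul_inverted hKodd hyy hyK hw₀K
  have hfH : f ∈ H := map_subtype_le K₀ hf
  have heH : e ∈ H := map_subtype_le K₀ he
  have hcom : ∀ a ∈ zpowers vb, qmap H ⟨y, hyH⟩ * a * (qmap H ⟨y, hyH⟩)⁻¹ = a := fun a ha => by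
    obtain ⟨i, rfl⟩ := mem_zpowers_iff.1 ha
    rw [← conj_zpow, hyq, hvy, mul_inv_cancel_right]
  have hoddq : ∀ a ∈ zpowers vb, Odd (orderOf a) := fun a ha =>
    hvo.of_dvd_nat (orderOf_dvd_of_mem_zpowers ha)
  have he1 : qmap H ⟨e, heH⟩ = 1 := by
    refine eq_one_of_sq_of_odd (eq_inv_iff_mul_eq_one.1 ?_) (hoddq _ ((hmemK e heH).1 he))
    rw [← map_inv, ← hcom _ ((hmemK e heH).1 he), ← map_inv, ← map_mul, ← map_mul]
    exact congrArg _ (Subtype.ext hey)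
  have hfq : qmap H ⟨f, hfH⟩ = vb := by
    rw [← hw₀, ← mul_one (qmap H ⟨f, hfH⟩), ← he1, ← map_mul]
    exact congrArg _ (Subtype.ext hfe.symm)
  set K' := K ⊓ centralizer {y} with hK'
  have hty : V.t * y = y * V.t := by
    rcases hy with rfl | rfl
    · exact V.comm
    · exact ((Commute.refl V.t).mul_right V.comm).eq
  have htK' : V.t ∈ normalizer (K' : Set G) := by
    exact inf_normalizer_le_normalizer_inf (Subgroup.mem_inf.2 ⟨htK, le_normalizer (mem_cent.2 hty)⟩)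
  obtain ⟨f₁, hf₁, e₁, he₁, hf₁t, he₁t, hfe₁⟩ := exists_fixed_mul_inverted (K := K')
    (hKodd.of_dvd_nat (card_dvd_of_le inf_le_left)) V.t_sq htK'
    (Subgroup.mem_inf.2 ⟨hf, mem_cent.2 (mul_inv_eq_iff_eq_mul.1 hfy).symm⟩)
  obtain ⟨he₁K, he₁y⟩ := Subgroup.mem_inf.1 he₁
  have he₁H : e₁ ∈ H := map_subtype_le K₀ he₁K
  have he₁o := Cfsg.Lib.GW.Frame.odd_orderOf hKodd he₁K
  refine ⟨e₁, y, hy, he₁o, fun h => hv1 ?_, he₁t, (mem_cent.1 he₁y).symm, ?_⟩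
  · have hf₁H : f₁ ∈ H := map_subtype_le K₀ (Subgroup.mem_inf.1 hf₁).1
    have h1 : qmap H ⟨f₁, hf₁H⟩ = vb := by
      rw [← hfq]
      exact congrArg _ (Subtype.ext (by show f₁ = f; rw [hfe₁, h, mul_one]))
    have h2 : qmap H ⟨V.t, (V.U_le_iff.1 hU).1⟩ * vb * (qmap H ⟨V.t, (V.U_le_iff.1 hU).1⟩)⁻¹ = vb := by
      rw [← h1, ← map_inv, ← map_mul, ← map_mul]
      exact congrArg _ (Subtype.ext hf₁t)
    rw [show qmap H ⟨V.t, (V.U_le_iff.1 hU).1⟩ = V.tb hU from rfl, hvt] at h2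
    exact eq_one_of_sq_of_odd (eq_inv_iff_mul_eq_one.1 h2.symm) hvo
  · -- `t` centralises `n`, so `e₁` and its inverse act alike on `⟨n⟩`
    have h1 : e₁ * n * e₁⁻¹ ∈ zpowers n := (mem_normalizer_iff.1 he₁H n).1 (mem_zpowers n)
    obtain ⟨j, hj⟩ := mem_zpowers_iff.1 h1
    have h2 : V.t * (e₁ * n * e₁⁻¹) * V.t⁻¹ = e₁⁻¹ * n * e₁ := by
      rw [← conj_mul, ← conj_mul, ← conj_inv, he₁t, c.n_t, inv_inv]
    rw [← hj, ← conj_zpow, c.n_t, hj] at h2
    refine (Cfsg.Lib.GW.commute_of_sq he₁o ?_).eq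
    refine mul_inv_eq_iff_eq_mul.1 ?_
    rw [show e₁ * e₁ * n * (e₁ * e₁)⁻¹ = e₁ * (e₁ * n * e₁⁻¹) * e₁⁻¹ by group, h2]
    group

/-- No element of order `p` outside the core is centralised by `u` and inverted by `t`. -/
theorem no_pair {b : G} (hb : b ∈ normalizer ((zpowers n : Subgroup G) : Set G)) (hbo : orderOf b = p)
    (hbu : V.u * b * V.u⁻¹ = b) (hbt : V.t * b * V.t⁻¹ = b⁻¹)
    (hbc : b ∉ Core (normalizer ((zpowers n : Subgroup G) : Set G))) : False := by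
  obtain ⟨L, D, htL, huL, hzL, hzo⟩ := c.top
  set H := normalizer ((zpowers n : Subgroup G) : Set G) with hH
  have hU : V.U ≤ H := c.U_le
  have F4 := V.four_q hU
  have hbo' : orderOf (qmap H ⟨b, hb⟩) = p := by
    haveI : Fact p.Prime := ⟨c.hp⟩
    refine orderOf_eq_prime ?_ fun e => hbc (qmap_eq_one.1 e)
    rw [← map_pow, show (⟨b, hb⟩ : H) ^ p = 1 from Subtype.ext (by
      show b ^ p = 1; rw [← hbo, pow_orderOf_eq_one]), map_one]
  have hinv : V.tb hU * qmap H ⟨b, hb⟩ * (V.tb hU)⁻¹ = (qmap H ⟨b, hb⟩)⁻¹ := by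
    rw [Cfsg.Lib.GW.Frame.tb, ← map_inv, ← map_mul, ← map_mul, ← map_inv]
    exact congrArg _ (Subtype.ext hbt)
  refine no_common D F4.z2 htL F4.t2 huL c.hp c.p2 c.p3 hzL
    (D.mem_of_inverted F4.z2 (hbo' ▸ c.hp.odd_of_ne_two c.p2) hinv) hzo hbo' ?_ ?_
  · rw [Cfsg.Lib.GW.Frame.tb, ← map_mul, ← map_mul]
    exact congrArg _ (Subtype.ext (mul_inv_eq_iff_eq_mul.1 c.z_t).symm)
  · rw [Cfsg.Lib.GW.Frame.ub, ← map_mul, ← map_mul]
    exact congrArg _ (Subtype.ext (mul_inv_eq_iff_eq_mul.1 hbu).symm)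

end Norm

end Cfsg.Lib.GWD.Inv
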