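import Cfsg.Agent.GWDihedral.Tops.Data

/-!
GW dihedral, inverted kind: two facts about the top of a proper subgroup.  An outer involution `x` commuting with an
inner one `t` leaves an element of odd order of `L` inverted by `t` and centralised by `x` or `t x`; a prime other
than three does not divide the tori of both.
-/

set_option autoImplicit false
set_option linter.unusedSectionVars false
set_option linter.style.haveILetI false

namespace Cfsg.Lib.GWD.Inv

open Subgroup
open Cfsg.Lib.GenDihedral (mul_self_of_two inv_of_two eq_one_of_sq_of_odd two_or_one mem_cent)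

universe u

variable {X : Type u} [Group X] [Finite X] {L : Subgroup X}

/-- Conjugate involutions from a product of odd order. -/
theorem conj_of_odd {a b : X} (ha : a * a = 1) (hb : b * b = 1) (ho : Odd (orderOf (a * b))) :
    ∃ g, g * b * g⁻¹ = a := by
  obtain ⟨m, hm⟩ := ho
  set e := a * b
  have hbi : b⁻¹ = b := inv_eq_of_mul_eq_one_right hb
  have h1 : b * e * b⁻¹ = e⁻¹ := by
    rw [mul_inv_rev, hbi, inv_eq_of_mul_eq_one_right ha]
    show b * (a * b) * b = b * a
    rw [mul_assoc b, mul_assoc a b b, hb, mul_one]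
  have h2 : ∀ j : ℕ, e ^ j * b * (e ^ j)⁻¹ = e ^ (2 * j) * b := fun j => by
    have h3 : b * (e ^ j)⁻¹ = e ^ j * b := by
      have := congrArg (fun w => w ^ j) h1
      simp only [conj_pow, inv_pow] at this
      rw [← this, ← mul_assoc, ← mul_assoc, hb, one_mul, hbi]
    rw [mul_assoc, h3, ← mul_assoc, ← pow_add, two_mul]
  refine ⟨e ^ (m + 1), ?_⟩
  rw [h2, show 2 * (m + 1) = orderOf e + 1 by omega, pow_succ, pow_orderOf_eq_one, one_mul]
  show a * b * b = a
  rw [mul_assoc, hb, mul_one]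

variable (D : TopData L)
include D

/-- An involution of `L` commuting with an outer one centralising no odd element inverted by `t` is `t`. -/
theorem eq_of_comm (hr : RankTwo X) {t y i : X} (ht : orderOf t = 2) (htL : t ∈ L) (hy : orderOf y = 2)
    (hyL : y ∉ L) (hty : t * y = y * t)
    (hno : ∀ v ∈ L, Odd (orderOf v) → t * v * t⁻¹ = v⁻¹ → y * v = v * y → v = 1)
    (hi : orderOf i = 2) (hiL : i ∈ L) (hiy : i * y = y * i) : i = t := by
  have hi2 := mul_self_of_two hi
  have ht2 := mul_self_of_two ht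
  set e := t * i with he
  have hte : t * e * t⁻¹ = e⁻¹ := by
    rw [he, mul_inv_rev, inv_of_two hi, inv_of_two ht, ← mul_assoc, ht2, one_mul]
  have hye : Commute y e := (show Commute y t from hty.symm).mul_right hiy.symm
  have hti : Commute t i → i = t := fun hc => by
    rcases hr t y i ht2 (mul_self_of_two hy) hi2 hty hc.eq hiy.symm with h | h | h | h | h | h | h
    · rw [h, orderOf_one] at ht; omega
    · rw [h, orderOf_one] at hy; omega
    · exact absurd (h ▸ htL) hyL
    · rw [h, orderOf_one] at hi; omega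
    · exact h
    · exact absurd (h ▸ hiL) hyL
    · refine absurd ?_ hyL
      have : t⁻¹ * i ∈ L := mul_mem (inv_mem htL) hiL
      rwa [h, inv_mul_cancel_left] at this
  by_cases ho : Odd (orderOf e)
  · have h1 := hno e (mul_mem htL hiL) ho hte hye.eq
    exact (eq_inv_of_mul_eq_one_right h1).trans (inv_of_two ht)
  obtain ⟨k, hk⟩ := (Nat.not_odd_iff_even.1 ho).two_dvd
  set j := e ^ k with hj
  have hjj : j * j = 1 := by rw [hj, ← pow_add, ← two_mul, ← hk, pow_orderOf_eq_one]
  have hj1 : j ≠ 1 := fun h => by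
    have := Nat.le_of_dvd (by have := orderOf_pos e; omega) (orderOf_dvd_of_pow_eq_one h)
    have := orderOf_pos e
    omega
  have hjt : Commute t j := by
    refine mul_inv_eq_iff_eq_mul.1 ?_
    rw [hj, ← conj_pow, hte, inv_pow]
    exact inv_eq_of_mul_eq_one_right hjj
  have hjL : j ∈ L := pow_mem (mul_mem htL hiL) k
  refine hti ?_
  rcases hr t y j ht2 (mul_self_of_two hy) hjj hty hjt.eq (hye.pow_right k).eq with h | h | h | h | h | h | h
  · rw [h, orderOf_one] at ht; omega
  · rw [h, orderOf_one] at hy; omega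
  · exact absurd (h ▸ htL) hyL
  · exact absurd h hj1
  · have hie : i * e * i⁻¹ = e⁻¹ := by
      rw [he, mul_inv_rev, inv_of_two hi, inv_of_two ht, mul_assoc i, mul_assoc t, hi2, mul_one]
    have : Commute i j := by
      refine mul_inv_eq_iff_eq_mul.1 ?_
      rw [hj, ← conj_pow, hie, inv_pow]
      exact inv_eq_of_mul_eq_one_right hjj
    exact (h ▸ this).symm
  · exact absurd (h ▸ hjL) hyL
  · refine absurd ?_ hyL
    have : t⁻¹ * j ∈ L := mul_mem (inv_mem htL) hjL
    rwa [h, inv_mul_cancel_left] at this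

/-- An outer involution commuting with `t`, given an element `z` of the torus of `t` of order other than three. -/
theorem exists_odd_fixed (hr : RankTwo X) {t x z : X} (ht : orderOf t = 2) (htL : t ∈ L) (hx : orderOf x = 2)
    (hxL : x ∉ L) (hc : t * x = x * t) (hzL : z ∈ L) (hzo : Odd (orderOf z)) (hz1 : z ≠ 1) (hz3 : z ^ 3 ≠ 1)
    (hzt : z * t = t * z) :
    ∃ v ∈ L, ∃ y, (y = x ∨ y = t * x) ∧ Odd (orderOf v) ∧ v ≠ 1 ∧ t * v * t⁻¹ = v⁻¹ ∧ y * v = v * y := by
  haveI := D.normal
  by_contra hcon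
  have hno : ∀ y, (y = x ∨ y = t * x) → ∀ v ∈ L, Odd (orderOf v) → t * v * t⁻¹ = v⁻¹ → y * v = v * y → v = 1 :=
    fun y hy v hv ho h1 h2 => by_contra fun h => hcon ⟨v, hv, y, hy, ho, h, h1, h2⟩
  have htx : orderOf (t * x) = 2 := orderOf_eq_prime (by
      rw [pow_two, show t * x * (t * x) = t * (x * t) * x by group, ← hc, ← mul_assoc, mul_self_of_two ht, one_mul,
        mul_self_of_two hx]) fun h => hxL (by
      rw [eq_inv_of_mul_eq_one_right h]
      exact inv_mem htL)
  have htxL : t * x ∉ L := fun h => hxL (by simpa [← mul_assoc] using mul_mem (inv_mem htL) h)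
  have hJ : ∀ i ∈ L, orderOf i = 2 → i * x = x * i → i = t := fun i hi hi2 h =>
    eq_of_comm D hr ht htL hx hxL hc (hno x (Or.inl rfl)) hi2 hi h
  have hJ' : ∀ i ∈ L, orderOf i = 2 → i * (t * x) = t * x * i → i = t := fun i hi hi2 h =>
    eq_of_comm D hr ht htL htx htxL (((Commute.refl t).mul_right hc).eq) (hno _ (Or.inr rfl)) hi2 hi h
  -- every involution of `L` commutes with `t`
  have hall : ∀ i ∈ L, orderOf i = 2 → i * t = t * i := by
    intro i hiL hi
    set e := i * x with he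
    have hne : ¬ Odd (orderOf e) := fun ho => by
      obtain ⟨g, hg⟩ := conj_of_odd (mul_self_of_two hi) (mul_self_of_two hx) ho
      refine hxL ?_
      have := Subgroup.Normal.conj_mem inferInstance i hiL g⁻¹
      rwa [← hg, show g⁻¹ * (g * x * g⁻¹) * g⁻¹⁻¹ = x by group] at this
    obtain ⟨k, hk⟩ := (Nat.not_odd_iff_even.1 hne).two_dvd
    set j := e ^ k with hj
    have hjj : j * j = 1 := by rw [hj, ← pow_add, ← two_mul, ← hk, pow_orderOf_eq_one]
    have hj1 : j ≠ 1 := fun h => by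
      have := Nat.le_of_dvd (by have := orderOf_pos e; omega) (orderOf_dvd_of_pow_eq_one h)
      have := orderOf_pos e
      omega
    have hinv : ∀ w, w * e * w⁻¹ = e⁻¹ → Commute w j := fun w h => by
      refine mul_inv_eq_iff_eq_mul.1 ?_
      rw [hj, ← conj_pow, h, inv_pow]
      exact inv_eq_of_mul_eq_one_right hjj
    have hij : Commute i j := hinv i (by
      rw [he, mul_inv_rev, inv_of_two hi, inv_of_two hx, ← mul_assoc, mul_self_of_two hi, one_mul])
    have hxj : Commute x j := hinv x (by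
      rw [he, mul_inv_rev, inv_of_two hi, inv_of_two hx, mul_assoc x, mul_assoc i, mul_self_of_two hx, mul_one])
    have hj2 : orderOf j = 2 := (two_or_one hjj).resolve_left hj1
    by_cases hjL : j ∈ L
    · rw [hJ j hjL hj2 hxj.symm.eq] at hij
      exact hij.eq
    · have hjx : j * x * (j * x) = 1 := by
        rw [show j * x * (j * x) = j * (x * j) * x by group, hxj.eq, ← mul_assoc, hjj, one_mul, mul_self_of_two hx]
      rcases two_or_one hjx with h | h
      · have : j = x := (eq_inv_of_mul_eq_one_left h).trans (inv_of_two hx)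
        rw [hJ i hiL hi (this ▸ hij.eq)]
      · have h1 := hJ _ (D.coset j x hj2 hx hjL hxL) h (hxj.symm.mul_left (Commute.refl x)).eq
        have : j = t * x := by rw [← h1, mul_assoc, mul_self_of_two hx, mul_one]
        rw [hJ' i hiL hi (this ▸ hij.eq)]
  -- a second involution of `L` inverts `z`
  obtain ⟨a₀, b₀, ha₀, hb₀, F4⟩ := D.four
  obtain ⟨a, haL, ha, hat⟩ : ∃ a ∈ L, orderOf a = 2 ∧ a ≠ t := by
    by_cases h : a₀ = t
    · exact ⟨b₀, hb₀, F4.t2, fun e => F4.ne_zt (h.trans e.symm)⟩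
    · exact ⟨a₀, ha₀, F4.z2, h⟩
  obtain ⟨τ, hτ⟩ := D.torus t ht htL
  have hzτ : z ∈ zpowers τ := hτ.gen z hzL hzo hzt
  rcases hτ.ti with ⟨h3, -⟩ | hti
  · refine hz3 (orderOf_dvd_iff_pow_eq_one.1 ?_)
    rw [← h3]
    exact orderOf_dvd_of_mem_zpowers hzτ
  have hinv := (hti z hzτ hz1).2 a ha hat (hall a haL ha)
  -- `a` and `z a z⁻¹` commute
  obtain ⟨l, hlL, hl⟩ := D.conj a t ha ht haL htL
  have hy : orderOf (z * a * z⁻¹) = 2 := (MulEquiv.orderOf_eq (MulAut.conj z) a).trans ha
  have hcz : Commute a (z * a * z⁻¹) := by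
    have h := hall _ (Subgroup.Normal.conj_mem inferInstance _ (mul_mem (mul_mem hzL haL) (inv_mem hzL)) l)
      ((MulEquiv.orderOf_eq (MulAut.conj l) _).trans hy)
    have := (show Commute (l * (z * a * z⁻¹) * l⁻¹) t from h).map (MulAut.conj l⁻¹).toMonoidHom
    rw [← hl] at this
    simpa [mul_assoc] using this.symm
  have e1 : z * a * z⁻¹ = a * (z⁻¹ * z⁻¹) := by
    calc z * a * z⁻¹ = a * (a⁻¹ * z * a⁻¹⁻¹) * z⁻¹ := by group
      _ = _ := by rw [inv_of_two ha, inv_of_two ha, show a * z * a = a * z * a⁻¹ by rw [inv_of_two ha], hinv,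
          mul_assoc]
  rw [e1] at hcz
  have e2 : Commute a (z⁻¹ * z⁻¹) := by
    have := ((Commute.refl a).inv_right).mul_right hcz
    rwa [inv_mul_cancel_left] at this
  have e3 : a * (z⁻¹ * z⁻¹) * a⁻¹ = z * z := by rw [← conj_mul, ← conj_inv, hinv, inv_inv]
  rw [e2.eq, mul_inv_cancel_right] at e3
  have e4 : z * z * (z * z) = 1 := by
    nth_rw 1 [← e3]
    group
  have e5 : z * z = 1 := eq_one_of_sq_of_odd e4 (by
    rw [← pow_two]; exact hzo.of_dvd_nat (orderOf_pow_dvd 2))
  exact hz1 (eq_one_of_sq_of_odd e5 hzo)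

/-- A prime other than three does not divide the torus of an inner and of an outer involution. -/
theorem no_common {t x a b : X} (ht : orderOf t = 2) (htL : t ∈ L) (hx : orderOf x = 2) (hxL : x ∉ L)
    {p : ℕ} (hp : p.Prime) (hp2 : p ≠ 2) (hp3 : p ≠ 3) (haL : a ∈ L) (hbL : b ∈ L) (hao : orderOf a = p)
    (hbo : orderOf b = p) (hat : a * t = t * a) (hbx : b * x = x * b) : False := by
  haveI := D.normal
  haveI : Fact p.Prime := ⟨hp⟩
  have hodd : Odd p := hp.odd_of_ne_two hp2
  obtain ⟨τ, hτ⟩ := D.torus t ht htL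
  have haτ : a ∈ zpowers τ := hτ.gen a haL (hao ▸ hodd) hat
  rcases hτ.ti with ⟨h3, -⟩ | hti
  · have h := orderOf_dvd_of_mem_zpowers haτ
    rw [hao, h3] at h
    exact hp3 ((Nat.prime_dvd_prime_iff_eq hp Nat.prime_three).1 h)
  have ha1 : a ≠ 1 := fun h => hp.one_lt.ne (by rw [← hao, h, orderOf_one])
  have hb1 : b ≠ 1 := fun h => hp.one_lt.ne (by rw [← hbo, h, orderOf_one])
  have hgrp : ∀ w : L, orderOf (w : X) = p → IsPGroup p (zpowers w) := fun w hw =>
    IsPGroup.of_card (n := 1) (by rw [Nat.card_zpowers, ← orderOf_coe, hw, pow_one])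
  obtain ⟨P, hP⟩ := (hgrp ⟨a, haL⟩ hao).exists_le_sylow
  have haP : (⟨a, haL⟩ : L) ∈ (P : Subgroup L) := hP (mem_zpowers _)
  -- `P` centralises `t`
  haveI : Nontrivial (P : Subgroup L) := ⟨⟨_, haP⟩, 1, fun e => ha1 (congrArg Subtype.val (congrArg Subtype.val e))⟩
  obtain ⟨c, hc⟩ : ∃ c : (P : Subgroup L), c ∈ center _ ∧ c ≠ 1 := by
    haveI := IsPGroup.center_nontrivial P.2
    obtain ⟨c, hc, hc1⟩ := (Subgroup.bot_or_exists_ne_one _).resolve_left
      ((nontrivial_iff_ne_bot (center (P : Subgroup L))).1 inferInstance)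
    exact ⟨c, hc, hc1⟩
  have hcc : ∀ w : L, w ∈ (P : Subgroup L) → Commute (w : X) ((c : L) : X) := fun w hw =>
    congrArg (fun q : (P : Subgroup L) => ((q : L) : X)) (mem_center_iff.1 hc.1 ⟨w, hw⟩)
  have hct : Commute ((c : L) : X) t := (hti a haτ ha1).1 _ (hcc _ haP).symm.eq
  obtain ⟨k, hk⟩ := IsPGroup.iff_orderOf.1 P.2 c
  have hco : Odd (orderOf ((c : L) : X)) := by rw [orderOf_coe, orderOf_coe, hk]; exact hodd.pow
  have hcτ := hτ.gen _ (c : L).2 hco hct.eq
  have hc1 : ((c : L) : X) ≠ 1 := fun e => hc.2 (Subtype.ext (Subtype.ext e))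
  have hPt : ∀ w : L, w ∈ (P : Subgroup L) → (w : X) * t = t * w := fun w hw =>
    (hti _ hcτ hc1).1 _ (hcc w hw).eq
  -- a conjugate of `b` lies in `P`
  obtain ⟨P', hP'⟩ := (hgrp ⟨b, hbL⟩ hbo).exists_le_sylow
  obtain ⟨l, hl⟩ := MulAction.exists_smul_eq L P' P
  have hb' : l * ⟨b, hbL⟩ * l⁻¹ ∈ (P : Subgroup L) := by
    rw [← hl]; exact ⟨_, hP' (mem_zpowers _), rfl⟩
  set b' : X := (l : X) * b * (l : X)⁻¹ with hbd
  set x' : X := (l : X) * x * (l : X)⁻¹ with hxd
  have hb'o : orderOf b' = p := (MulEquiv.orderOf_eq (MulAut.conj (l : X)) b).trans hbo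
  have hb't : b' * t = t * b' := hPt _ hb'
  have hb'τ := hτ.gen b' (mul_mem (mul_mem l.2 hbL) (inv_mem l.2)) (hb'o ▸ hodd) hb't
  obtain ⟨hcent, hinv⟩ := hti b' hb'τ fun e => hp.one_lt.ne (by rw [← hb'o, e, orderOf_one])
  have hxb : x' * b' = b' * x' := by rw [hbd, hxd, conj_mul, conj_mul, hbx]
  have hx't := hcent x' hxb
  have hx'ne : x' ≠ t := fun e => hxL (by
    have := Subgroup.Normal.conj_mem inferInstance t htL (l : X)⁻¹
    rwa [← e, hxd, show (l : X)⁻¹ * ((l : X) * x * (l : X)⁻¹) * (l : X)⁻¹⁻¹ = x by group] at this)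
  have h := hinv x' ((MulEquiv.orderOf_eq (MulAut.conj (l : X)) x).trans hx) hx'ne hx't
  rw [hxb, mul_inv_cancel_right] at h
  exact hp.one_lt.ne (by
    rw [← hb'o, eq_one_of_sq_of_odd (eq_inv_iff_mul_eq_one.1 h) (hb'o ▸ hodd), orderOf_one])

end Cfsg.Lib.GWD.Inv
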